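import Groth.Agent.CubicPfaff.Spread
import Groth.Agent.CubicGeom.ConicBundle
import Groth.Agent.CubicGeom.SingularLines
import Mathlib.RingTheory.MvPolynomial.Homogeneous

/-!
An irreducible cubic surface which is not a cone has a smooth point which is not a T-point.
-/

set_option autoImplicit false

namespace Groth.CubicPfaff

open MvPolynomial Groth.CubicGeom

variable {K : Type*} [Field K] [CharZero K] [IsAlgClosed K] {F : MvPolynomial (Fin 4) K}

/-- An irreducible cubic contains no plane. -/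
theorem not_plane (hF : F.IsHomogeneous 3) (hirr : Irreducible F) (φ : (Fin 4 → K) →ₗ[K] K) (hφ : φ ≠ 0) :
    ∃ x, φ x = 0 ∧ (ofPoly F).tri x x x ≠ 0 := by
  by_contra hc
  push Not at hc
  obtain ⟨g, hg⟩ := linPoly_dvd_of_forall' φ hφ F fun x hx => (ofPoly_self_eq_zero hF x).1 (hc x hx)
  have hlin0 : linPoly φ ≠ 0 := fun h => hφ (LinearMap.ext fun x => by rw [← eval_linPoly φ x, h]; simp)
  have hg0 : g ≠ 0 := right_ne_zero_of_mul (hg ▸ hirr.ne_zero)
  have hdeg : F.totalDegree = 1 + g.totalDegree := by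
    rw [hg, totalDegree_mul_of_isDomain hlin0 hg0, (isHomogeneous_linPoly φ).totalDegree hlin0]
  rw [hF.totalDegree hirr.ne_zero] at hdeg
  rcases hirr.isUnit_or_isUnit hg with hu | hu
  · obtain ⟨l, -, hl⟩ := MvPolynomial.isUnit_iff_eq_C_of_isReduced.1 hu
    have := (isHomogeneous_linPoly φ).totalDegree hlin0
    rw [hl, totalDegree_C] at this
    omega
  · obtain ⟨l, -, hl⟩ := MvPolynomial.isUnit_iff_eq_C_of_isReduced.1 hu
    rw [hl, totalDegree_C] at hdeg
    omega

/-- Lines through a T-point in its tangent plane. -/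
theorem exists_line_of_isTPt (hF : F.IsHomogeneous 3) (hirr : Irreducible F) {b : Fin 4 → K} (hb : b ≠ 0)
    (h0 : (ofPoly F).tri b b b = 0) (hbb : (ofPoly F).tri b b ≠ 0) (hT : IsTPt (ofPoly F) b) :
    ∃ U : Submodule K (Fin 4 → K), b ∈ U ∧ (ofPoly F).IsLine U ∧ U ≤ LinearMap.ker ((ofPoly F).tri b b) := by
  classical
  set T := ofPoly F
  obtain ⟨M₁, M₂, M₃, hM⟩ := hT
  obtain ⟨M, hMb, hMz⟩ : ∃ M : (Fin 4 → K) →ₗ[K] K, M b = 0 ∧
      ∀ x, T.tri b b x = 0 → M x = 0 → T.tri x x x = 0 := by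
    have := hM b h0
    rw [h0] at this
    rcases mul_eq_zero.1 this.symm with h | h
    · rcases mul_eq_zero.1 h with h | h
      · exact ⟨M₁, h, fun x hx hx' => by rw [hM x hx, hx']; ring⟩
      · exact ⟨M₂, h, fun x hx hx' => by rw [hM x hx, hx']; ring⟩
    · exact ⟨M₃, h, fun x hx hx' => by rw [hM x hx, hx']; ring⟩
  set H := LinearMap.ker (T.tri b b) with hH
  refine ⟨H ⊓ LinearMap.ker M, ⟨h0, hMb⟩, ⟨?_, fun x hx => hMz x hx.1 hx.2⟩, inf_le_left⟩
  have hH3 : Module.finrank K ↥H = 3 := by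
    have := Form.finrank_ker_of_ne_zero hbb
    rw [Module.finrank_fin_fun] at this
    change Module.finrank K ↥H + 1 = 4 at this
    omega
  set ψ : ↥H →ₗ[K] K := M.comp H.subtype with hψ
  have hψ0 : ψ ≠ 0 := fun h => by
    obtain ⟨x, hx, hx'⟩ := not_plane hF hirr _ hbb
    exact hx' (hMz x hx (LinearMap.congr_fun h ⟨x, hx⟩))
  have h1 : Module.finrank K ↥(LinearMap.ker ψ) + 1 = 3 := (Form.finrank_ker_of_ne_zero hψ0).trans hH3
  have heq : (LinearMap.ker ψ).map H.subtype = H ⊓ LinearMap.ker M := by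
    rw [hψ, LinearMap.ker_comp, Submodule.map_comap_subtype]
  rw [← heq, Submodule.finrank_map_subtype_eq]
  omega

/-- The smooth case. -/
theorem exists_good_of_smooth (hF : F.IsHomogeneous 3) (hirr : Irreducible F)
    (hsm : (ofPoly F).Smooth) :
    ∃ b : Fin 4 → K, b ≠ 0 ∧ eval b F = 0 ∧ ¬ IsTPt (ofPoly F) b := by
  classical
  set T := ofPoly F with hTdef
  have hV : Module.finrank K (Fin 4 → K) = 4 := Module.finrank_fin_fun K
  obtain ⟨b₀, hb₀, hb₀0⟩ : ∃ b₀ : Fin 4 → K, b₀ ≠ 0 ∧ eval b₀ F = 0 := by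
    have hz : eval (0 : Fin 4 → K) F = 0 := by
      rw [← ofPoly_self_eq_zero hF]; simp
    obtain ⟨y, hy, hy'⟩ := exists_common_zero (m := 1) (n := 4) (by norm_num) (fun _ => F) (fun _ => hz)
    exact ⟨y, hy, hy' 0⟩
  by_contra hall
  push Not at hall
  have hsm' : ∀ p : Fin 4 → K, p ≠ 0 → T.tri p p p = 0 → T.tri p p ≠ 0 := fun p hp h0 => by
    obtain ⟨w, hw⟩ := hsm p hp h0
    exact fun h => hw (by simp [h])
  have hb₀T : T.tri b₀ b₀ b₀ = 0 := (ofPoly_self_eq_zero hF _).2 hb₀0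
  obtain ⟨L, -, hL, -⟩ := exists_line_of_isTPt hF hirr hb₀ hb₀T (hsm' _ hb₀ hb₀T) (hall b₀ hb₀ hb₀0)
  let B := Module.finBasisOfFinrankEq K ↥L hL.1
  set u : Fin 4 → K := (B 0).1
  set v : Fin 4 → K := (B 1).1
  have huv : LinearIndependent K ![u, v] := by
    have := B.linearIndependent.map' L.subtype L.ker_subtype
    have e : ![u, v] = L.subtype ∘ B := by funext i; fin_cases i <;> rfl
    rw [e]; exact this
  let p : K → Fin 4 → K := fun t => u + t • v
  have hp0 : ∀ t, p t ≠ 0 := fun t h => by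
    have := Fintype.linearIndependent_iff.1 huv ![1, t] (by simpa [Fin.sum_univ_two] using h) 0
    simp at this
  have hpL : ∀ t, p t ∈ L := fun t => add_mem (B 0).2 (L.smul_mem _ (B 1).2)
  set Trit := {H : Submodule K (Fin 4 → K) | Module.finrank K ↥H = 3 ∧ L ≤ H ∧ IsTritangent T L H}
  have hTrit : Trit.Finite := Set.finite_of_ncard_ne_zero (by rw [ncard_tritangent hV hsm hL]; norm_num)
  have hmem : ∀ t, LinearMap.ker (T.tri (p t) (p t)) ∈ Trit := by
    intro t
    have h0 : T.tri (p t) (p t) (p t) = 0 := hL.2 _ (hpL t)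
    have hpp := hsm' _ (hp0 t) h0
    set H := LinearMap.ker (T.tri (p t) (p t)) with hH
    have hH3 : Module.finrank K ↥H = 3 := by
      have := Form.finrank_ker_of_ne_zero hpp
      rw [hV] at this
      change Module.finrank K ↥H + 1 = 4 at this
      omega
    have hLH : L ≤ H := Form.line_le_tangentPlane hL.2 (hpL t)
    refine ⟨hH3, hLH, ?_⟩
    obtain ⟨M₁, M₂, M₃, hM⟩ := hall _ (hp0 t) ((ofPoly_self_eq_zero hF _).1 h0)
    let Bh := Module.finBasisOfFinrankEq K ↥H hH3
    let A : Matrix (Fin 4) (Fin 3) K := Matrix.of fun r c => (Bh c).1 r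
    have hA : ∀ z, A.mulVec z = (Bh.equivFun.symm z : Fin 4 → K) := fun z => by
      funext r
      simp [A, Matrix.mulVec, dotProduct, Module.Basis.equivFun_symm_apply, Finset.sum_apply, mul_comm]
    let ι : (Fin 3 → K) →ₗ[K] (Fin 4 → K) := H.subtype.comp Bh.equivFun.symm.toLinearMap
    have hι : Function.Injective ι := Subtype.val_injective.comp Bh.equivFun.symm.injective
    have hιmem : ∀ z, ι z ∈ H := fun z => (Bh.equivFun.symm z).2
    have hrank : A.rank = 3 := by
      have hlin : A.mulVecLin = ι := LinearMap.ext fun z => hA z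
      rw [Matrix.rank, hlin, LinearMap.finrank_range_of_inj hι, Module.finrank_fin_fun]
    let N : Fin 3 → (Fin 3 → K) →ₗ[K] K := fun i => (![M₁, M₂, M₃] i).comp ι
    have hg : C 6 * subst A F = linPoly (N 0) * linPoly (N 1) * linPoly (N 2) := MvPolynomial.funext fun z => by
      simp only [map_mul, eval_C, eval_subst, eval_linPoly]
      rw [hA, show ((Bh.equivFun.symm z : ↥H) : Fin 4 → K) = ι z from rfl, ← ofPoly_self hF, hM _ (hιmem z)]
      simp [N]
    have hsq := squarefree_restrict hF hsm A hrank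
    have hu6 : IsUnit (C 6 : MvPolynomial (Fin 3) K) := (IsUnit.mk0 (6 : K) (by norm_num)).map C
    have hsq' : Squarefree (linPoly (N 0) * linPoly (N 1) * linPoly (N 2)) := by
      rw [← hg]; exact (associated_unit_mul_left _ _ hu6).squarefree_iff.2 hsq
    have hN0 : ∀ i, N i ≠ 0 := fun i h => by
      refine hsq'.ne_zero ?_
      have : linPoly (N i) = 0 := by rw [h]; simp [linPoly]
      fin_cases i <;> simp only [Fin.zero_eta, Fin.mk_one, Fin.reduceFinMk] at this <;> simp [this]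
    let W : Fin 3 → Submodule K (Fin 4 → K) := fun i => (LinearMap.ker (N i)).map ι
    have hW : ∀ i, T.IsLine (W i) ∧ W i ≤ H := fun i => by
      refine ⟨⟨?_, ?_⟩, ?_⟩
      · have e := (Submodule.equivMapOfInjective ι hι (LinearMap.ker (N i))).finrank_eq
        rw [← e]
        have := Form.finrank_ker_of_ne_zero (hN0 i)
        rw [Module.finrank_fin_fun] at this
        omega
      · rintro x ⟨z, hz, rfl⟩
        rw [hM _ (hιmem z)]
        have hzi : N i z = 0 := hz
        fin_cases i <;> simp [N] at hzi ⊢ <;> simp [hzi]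
      · rintro x ⟨z, -, rfl⟩; exact hιmem z
    have hWinj : Function.Injective W := by
      intro i j hij
      by_contra hne
      have hker : LinearMap.ker (N i) = LinearMap.ker (N j) :=
        Submodule.map_injective_of_injective hι hij
      have hd : linPoly (N j) ∣ linPoly (N i) := linPoly_dvd_of_forall' (N j) (hN0 j) _ fun x hx => by
        rw [eval_linPoly]
        have : x ∈ LinearMap.ker (N i) := hker ▸ hx
        exact this
      have hsqd : linPoly (N j) * linPoly (N j) ∣ linPoly (N 0) * linPoly (N 1) * linPoly (N 2) := by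
        refine (mul_dvd_mul hd dvd_rfl).trans ?_
        fin_cases i <;> fin_cases j <;> simp only [Fin.zero_eta, Fin.mk_one, Fin.reduceFinMk] at hne ⊢ <;> first
          | exact (hne trivial).elim
          | exact absurd rfl hne
          | exact Dvd.intro (linPoly (N 2)) (by ring1)
          | exact Dvd.intro (linPoly (N 1)) (by ring1)
          | exact Dvd.intro (linPoly (N 0)) (by ring1)
      obtain ⟨l, -, hl⟩ := MvPolynomial.isUnit_iff_eq_C_of_isReduced.1 (hsq' _ hsqd)
      have h0' : linPoly (N j) ≠ 0 := fun h => hN0 j (LinearMap.ext fun x => by rw [← eval_linPoly (N j) x, h]; simp)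
      have := (isHomogeneous_linPoly (N j)).totalDegree h0'
      rw [hl, totalDegree_C] at this
      omega
    obtain ⟨i, hi⟩ := le_one_of_subset_union W (L := L) fun x hx => by
      obtain ⟨z, hz⟩ : ∃ z, ι z = x := ⟨Bh.equivFun ⟨x, hLH hx⟩, by simp [ι]⟩
      have h3 : T.tri x x x = 0 := hL.2 x hx
      rw [hM x (hLH hx), mul_eq_zero, mul_eq_zero] at h3
      rcases h3 with (h | h) | h
      · exact ⟨0, z, (show N 0 z = 0 by simp [N, hz, h]), hz⟩
      · exact ⟨1, z, (show N 1 z = 0 by simp [N, hz, h]), hz⟩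
      · exact ⟨2, z, (show N 2 z = 0 by simp [N, hz, h]), hz⟩
    have hLi : L = W i := Submodule.eq_of_le_of_finrank_eq hi (by rw [hL.1, (hW i).1.1])
    have hne : ∀ d : Fin 3, d ≠ 0 → i + d ≠ i :=
      (by decide : ∀ i d : Fin 3, d ≠ 0 → i + d ≠ i) i
    have hne' : i + 1 ≠ i + 2 := (by decide : ∀ i : Fin 3, i + 1 ≠ i + 2) i
    exact ⟨W (i + 1), W (i + 2), (hW _).1, (hW _).1, fun e => hne 1 (by decide) (hWinj (e.trans hLi)),
      fun e => hne 2 (by decide) (hWinj (e.trans hLi)), fun e => hne' (hWinj e), (hW _).2, (hW _).2⟩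
  -- some plane is tangent at infinitely many points of the line, so the line carries a singular point
  obtain ⟨H, hH, hinf⟩ : ∃ H ∈ Trit, ({t : K | LinearMap.ker (T.tri (p t) (p t)) = H}).Infinite := by
    by_contra hc
    push Not at hc
    refine (Set.infinite_univ (α := K)) ((hTrit.biUnion fun H hH => hc H hH).subset fun t _ => ?_)
    exact Set.mem_biUnion (hmem t) rfl
  obtain ⟨z, hz⟩ := SetLike.exists_not_mem_of_ne_top H (fun e => by
    have h3 := hH.1
    rw [e, finrank_top, hV] at h3; omega)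
  have hall0 : ∀ x ∈ H, T.tri u u x = 0 ∧ T.tri u v x = 0 ∧ T.tri v v x = 0 := by
    intro x hx
    set P : Polynomial K := Polynomial.C (T.tri u u x) + Polynomial.C (2 * T.tri u v x) * Polynomial.X
      + Polynomial.C (T.tri v v x) * Polynomial.X ^ 2 with hP
    have hP0 : P = 0 := Polynomial.eq_zero_of_infinite_isRoot _ (hinf.mono fun t ht => by
      have h1 : x ∈ LinearMap.ker (T.tri (p t) (p t)) := by
        rw [show LinearMap.ker (T.tri (p t) (p t)) = H from ht]; exact hx
      simp only [p, LinearMap.mem_ker, map_add, map_smul, LinearMap.add_apply, LinearMap.smul_apply,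
        smul_eq_mul, T.symm12 v u] at h1
      simp only [Set.mem_setOf_eq, Polynomial.IsRoot.def, hP, Polynomial.eval_add, Polynomial.eval_mul,
        Polynomial.eval_C, Polynomial.eval_X, Polynomial.eval_pow]
      linear_combination h1)
    have c0 := congrArg (Polynomial.coeff · 0) hP0
    have c1 := congrArg (Polynomial.coeff · 1) hP0
    have c2 := congrArg (Polynomial.coeff · 2) hP0
    simp [hP, Polynomial.coeff_C, Polynomial.coeff_X, Polynomial.coeff_X_pow] at c0 c1 c2
    exact ⟨c0, c1, c2⟩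
  have hsup : H ⊔ Submodule.span K {z} = ⊤ := by
    apply Submodule.eq_top_of_finrank_eq
    have hlt : H < H ⊔ Submodule.span K {z} :=
      lt_of_le_of_ne le_sup_left fun e => hz (e ▸ Submodule.mem_sup_right (Submodule.mem_span_singleton_self z))
    have := Submodule.finrank_lt_finrank_of_lt hlt
    have := Submodule.finrank_le (H ⊔ Submodule.span K {z})
    have h3 := hH.1
    rw [Module.finrank_fin_fun] at *
    omega
  have hext : ∀ s : K → (Fin 4 → K), ∀ t, T.tri (s t) (s t) z = 0 →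
      (∀ x ∈ H, T.tri (s t) (s t) x = 0) → T.tri (s t) (s t) = 0 := by
    intro s t hzz hxx
    refine LinearMap.ext fun w => ?_
    obtain ⟨x, hx, y, hy, rfl⟩ := Submodule.mem_sup.1 (hsup ▸ Submodule.mem_top : w ∈ H ⊔ Submodule.span K {z})
    obtain ⟨l, rfl⟩ := Submodule.mem_span_singleton.1 hy
    simp [hxx x hx, hzz]
  by_cases hvz : T.tri v v z = 0
  · refine hsm' v (fun h => ?_) (hL.2 v (B 1).2) (hext (fun _ => v) 0 hvz fun x hx => (hall0 x hx).2.2)
    have := huv.ne_zero 1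
    simp [h] at this
  · obtain ⟨t, ht⟩ := IsAlgClosed.exists_root
      (Polynomial.C (T.tri v v z) * Polynomial.X ^ 2 + Polynomial.C (2 * T.tri u v z) * Polynomial.X
        + Polynomial.C (T.tri u u z) : Polynomial K)
      (by rw [Polynomial.degree_quadratic hvz]; decide)
    simp only [Polynomial.IsRoot, Polynomial.eval_add, Polynomial.eval_mul, Polynomial.eval_pow,
      Polynomial.eval_C, Polynomial.eval_X] at ht
    refine hsm' (p t) (hp0 t) (hL.2 _ (hpL t)) (hext p t ?_ fun x hx => ?_)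
    · simp only [p, map_add, map_smul, LinearMap.add_apply, LinearMap.smul_apply, smul_eq_mul, T.symm12 v u]
      linear_combination ht
    · obtain ⟨h1, h2, h3⟩ := hall0 x hx
      simp only [p, map_add, map_smul, LinearMap.add_apply, LinearMap.smul_apply, smul_eq_mul, T.symm12 v u,
        h1, h2, h3]
      ring

/-- The case of a double line. -/
theorem exists_good_of_double_line (hF : F.IsHomogeneous 3) (hirr : Irreducible F)
    (hncone : ∀ v : Fin 4 → K, v ≠ 0 → ∃ x, (ofPoly F).tri x x v ≠ 0)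
    {l₀ l₁ : Fin 4 → K} (hli : LinearIndependent K ![l₀, l₁])
    (h00 : (ofPoly F).tri l₀ l₀ = 0) (h01 : (ofPoly F).tri l₀ l₁ = 0) (h11 : (ofPoly F).tri l₁ l₁ = 0) :
    ∃ b : Fin 4 → K, b ≠ 0 ∧ eval b F = 0 ∧ (ofPoly F).tri b b ≠ 0 ∧ ¬ IsTPt (ofPoly F) b := by
  classical
  set T := ofPoly F with hTdef
  have hV : Module.finrank K (Fin 4 → K) = 4 := Module.finrank_fin_fun K
  -- complete to a basis
  obtain ⟨l₂, l₃, hB⟩ : ∃ l₂ l₃ : Fin 4 → K, LinearIndependent K ![l₃, l₂, l₀, l₁] := by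
    have grow : ∀ {n : ℕ} (f : Fin n → Fin 4 → K), n < 4 → LinearIndependent K f →
        ∃ w, w ∉ Submodule.span K (Set.range f) := fun {n} f hn hf => by
      by_contra hcon
      push Not at hcon
      have h1 : Submodule.span K (Set.range f) = ⊤ := eq_top_iff.2 fun x _ => hcon x
      have := finrank_span_eq_card hf
      rw [h1, finrank_top, hV, Fintype.card_fin] at this
      omega
    obtain ⟨w, hw⟩ := grow ![l₀, l₁] (by norm_num) hli
    have h3 : LinearIndependent K ![w, l₀, l₁] := linearIndependent_finCons.2 ⟨hli, hw⟩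
    obtain ⟨w', hw'⟩ := grow ![w, l₀, l₁] (by norm_num) h3
    exact ⟨w, w', linearIndependent_finCons.2 ⟨h3, hw'⟩⟩
  let B := basisOfLinearIndependentOfCardEqFinrank hB (by simp)
  have hcoord : ∀ x, x = B.coord 2 x • l₀ + B.coord 3 x • l₁ + (B.coord 1 x • l₂ + B.coord 0 x • l₃) := fun x => by
    conv_lhs => rw [← B.sum_repr x, Fin.sum_univ_four]
    simp only [B, coe_basisOfLinearIndependentOfCardEqFinrank, Module.Basis.coord_apply]
    simp only [Matrix.cons_val_zero, Matrix.cons_val_one, Matrix.cons_val]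
    abel
  have e00 : ∀ x, T.tri l₀ l₀ x = 0 := fun x => by rw [h00]; rfl
  have e01 : ∀ x, T.tri l₀ l₁ x = 0 := fun x => by rw [h01]; rfl
  have e11 : ∀ x, T.tri l₁ l₁ x = 0 := fun x => by rw [h11]; rfl
  have e10 : ∀ x, T.tri l₁ l₀ x = 0 := fun x => by rw [T.symm12]; exact e01 x
  have expF : ∀ (p r : K) (h : Fin 4 → K), T.tri (p • l₀ + r • l₁ + h) (p • l₀ + r • l₁ + h) (p • l₀ + r • l₁ + h)
      = 3 * p * T.tri l₀ h h + 3 * r * T.tri l₁ h h + T.tri h h h := fun p r h => by
    simp only [map_add, map_smul, LinearMap.add_apply, LinearMap.smul_apply, smul_eq_mul,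
      T.symm12 h l₀, T.symm12 h l₁, T.symm23 l₀ h l₀, T.symm23 l₀ h l₁, T.symm23 l₁ h l₀, T.symm23 l₁ h l₁,
      e00, e01, e11, e10, T.symm23 h h l₀, T.symm23 h h l₁]
    ring
  have expP : ∀ (p r P R : K) (h y : Fin 4 → K),
      T.tri (P • l₀ + R • l₁ + y) (P • l₀ + R • l₁ + y) (p • l₀ + r • l₁ + h)
      = p * T.tri l₀ y y + r * T.tri l₁ y y + 2 * P * T.tri l₀ y h + 2 * R * T.tri l₁ y h + T.tri y y h := fun p r P R h y => by
    simp only [map_add, map_smul, LinearMap.add_apply, LinearMap.smul_apply, smul_eq_mul,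
      T.symm12 y l₀, T.symm12 y l₁, T.symm23 l₀ y l₀, T.symm23 l₀ y l₁, T.symm23 l₁ y l₀, T.symm23 l₁ y l₁,
      e00, e01, e11, e10, T.symm23 y y l₀, T.symm23 y y l₁, T.symm12 y l₀ y, T.symm12 y l₁ y]
    ring
  set a0 := T.tri l₀ l₂ l₂
  set a1 := T.tri l₀ l₂ l₃
  set a2 := T.tri l₀ l₃ l₃
  set b0 := T.tri l₁ l₂ l₂
  set b1 := T.tri l₁ l₂ l₃
  set b2 := T.tri l₁ l₃ l₃
  have hindep : ∀ c d : K, c * a0 + d * b0 = 0 → c * a1 + d * b1 = 0 → c * a2 + d * b2 = 0 → c = 0 ∧ d = 0 := by
    intro c d k0 k1 k2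
    by_contra hcd
    have hv : c • l₀ + d • l₁ ≠ 0 := fun h => hcd (by
      have := Fintype.linearIndependent_iff.1 hli ![c, d] (by simpa [Fin.sum_univ_two] using h)
      exact ⟨this 0, this 1⟩)
    obtain ⟨x, hx⟩ := hncone _ hv
    refine hx ?_
    show T.tri x x (c • l₀ + d • l₁) = 0
    rw [hcoord x]
    simp only [map_add, map_smul, LinearMap.add_apply, LinearMap.smul_apply, smul_eq_mul,
      T.symm12 l₂ l₀, T.symm12 l₂ l₁, T.symm12 l₃ l₀, T.symm12 l₃ l₁, T.symm12 l₃ l₂,
      T.symm23 l₀ l₂ l₀, T.symm23 l₀ l₂ l₁, T.symm23 l₁ l₂ l₀, T.symm23 l₁ l₂ l₁,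
      T.symm23 l₀ l₃ l₀, T.symm23 l₀ l₃ l₁, T.symm23 l₁ l₃ l₀, T.symm23 l₁ l₃ l₁,
      T.symm23 l₂ l₂ l₀, T.symm23 l₂ l₂ l₁, T.symm23 l₃ l₃ l₀, T.symm23 l₃ l₃ l₁,
      T.symm23 l₂ l₃ l₀, T.symm23 l₂ l₃ l₁, e00, e01, e11, e10]
    linear_combination (B.coord 1 x) ^ 2 * k0 + 2 * (B.coord 1 x) * (B.coord 0 x) * k1 + (B.coord 0 x) ^ 2 * k2
  -- the Wronskian does not vanish identically
  let PA : Polynomial K := Polynomial.C a0 + Polynomial.C (2 * a1) * Polynomial.X + Polynomial.C a2 * Polynomial.X ^ 2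
  let PW : Polynomial K := Polynomial.C (b0 * a1 - a0 * b1) + Polynomial.C (b0 * a2 - a0 * b2) * Polynomial.X
    + Polynomial.C (b1 * a2 - a1 * b2) * Polynomial.X ^ 2
  have hPA : PA ≠ 0 := fun h => by
    have c0 := congrArg (Polynomial.coeff · 0) h
    have c1 := congrArg (Polynomial.coeff · 1) h
    have c2 := congrArg (Polynomial.coeff · 2) h
    simp [PA, Polynomial.coeff_C, Polynomial.coeff_X, Polynomial.coeff_X_pow] at c0 c1 c2
    exact one_ne_zero (hindep 1 0 (by simp [c0]) (by simp [c1]) (by simp [c2])).1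
  have hPW : PW ≠ 0 := fun h => by
    have c0 := congrArg (Polynomial.eval 0) h
    have c1 := congrArg (Polynomial.eval 1) h
    have c2 := congrArg (Polynomial.eval (-1)) h
    simp only [PW, Polynomial.eval_add, Polynomial.eval_mul, Polynomial.eval_C, Polynomial.eval_X,
      Polynomial.eval_pow, Polynomial.eval_zero] at c0 c1 c2
    have m0 : b0 * a1 - a0 * b1 = 0 := by linear_combination c0
    have m1 : b0 * a2 - a0 * b2 = 0 := by linear_combination (c1 - c2) / 2
    have m2 : b1 * a2 - a1 * b2 = 0 := by linear_combination (c1 + c2) / 2 - m0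
    by_cases ha0 : a0 = 0
    · rw [ha0, zero_mul, sub_zero] at m0 m1
      by_cases ha1 : a1 = 0
      · rw [ha1, zero_mul, sub_zero] at m2
        by_cases ha2 : a2 = 0
        · exact one_ne_zero (hindep 1 0 (by simp [ha0]) (by simp [ha1]) (by simp [ha2])).1
        · have hb0 := (mul_eq_zero.1 m1).resolve_right ha2
          have hb1 := (mul_eq_zero.1 m2).resolve_right ha2
          exact ha2 (neg_eq_zero.1 (hindep b2 (-a2) (by rw [ha0, hb0]; ring) (by rw [ha1, hb1]; ring) (by ring)).2)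
      · have hb0 := (mul_eq_zero.1 m0).resolve_right ha1
        exact ha1 (neg_eq_zero.1 (hindep b1 (-a1) (by rw [ha0, hb0]; ring) (by ring) (by linear_combination m2)).2)
    · exact ha0 (neg_eq_zero.1 (hindep b0 (-a0) (by ring) (by linear_combination m0) (by linear_combination m1)).2)
  obtain ⟨s, hs⟩ : ∃ s : K, s ∉ {s : K | PA.eval s = 0} ∪ {s : K | PW.eval s = 0} :=
    ((Polynomial.finite_setOf_isRoot hPA).union (Polynomial.finite_setOf_isRoot hPW)).exists_notMem
  simp only [Set.mem_union, Set.mem_setOf_eq, not_or] at hs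
  obtain ⟨hsA, hsW⟩ := hs
  set y : Fin 4 → K := l₂ + s • l₃ with hy
  set A0 := T.tri l₀ y y with hA0
  set B0 := T.tri l₁ y y with hB0
  set A01 := T.tri l₀ y l₃ with hA01
  set B01 := T.tri l₁ y l₃ with hB01
  have vA0 : A0 = PA.eval s := by
    simp only [hA0, hy, PA, map_add, map_smul, LinearMap.add_apply, LinearMap.smul_apply, smul_eq_mul,
      T.symm23 l₀ l₃ l₂, Polynomial.eval_add, Polynomial.eval_mul, Polynomial.eval_C, Polynomial.eval_X,
      Polynomial.eval_pow, a0, a1, a2]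
    ring
  have vW : B0 * A01 - A0 * B01 = PW.eval s := by
    simp only [hA0, hB0, hA01, hB01, hy, PW, map_add, map_smul, LinearMap.add_apply, LinearMap.smul_apply,
      smul_eq_mul, T.symm23 l₀ l₃ l₂, T.symm23 l₁ l₃ l₂, Polynomial.eval_add, Polynomial.eval_mul,
      Polynomial.eval_C, Polynomial.eval_X, Polynomial.eval_pow, a0, a1, a2, b0, b1, b2]
    ring
  have hA0n : A0 ≠ 0 := by rw [vA0]; exact hsA
  have hWn : B0 * A01 - A0 * B01 ≠ 0 := by rw [vW]; exact hsW
  set y1 : Fin 4 → K := (A0 * b2 - B0 * a2) • y - (2 * (A0 * B01 - B0 * A01)) • l₃ with hy1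
  set A1 := T.tri l₀ y1 y1 with hA1
  set B1 := T.tri l₁ y1 y1 with hB1
  have hQ1 : A0 * B1 = B0 * A1 := by
    simp only [hA1, hB1, hy1, map_sub, map_smul, LinearMap.sub_apply, LinearMap.smul_apply, smul_eq_mul,
      T.symm23 l₀ l₃ y, T.symm23 l₁ l₃ y, ← hA0, ← hB0, ← hA01, ← hB01, a2, b2]
    ring
  have hy1d : B0 * T.tri l₀ y y1 - A0 * T.tri l₁ y y1 = -2 * (A0 * B01 - B0 * A01) * (B0 * A01 - A0 * B01) := by
    simp only [hy1, map_sub, map_smul, LinearMap.sub_apply, LinearMap.smul_apply, smul_eq_mul,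
      ← hA0, ← hB0, ← hA01, ← hB01]
    ring
  let Pp : K → K := fun R => -(3 * R * B0 + T.tri y y y) / (3 * A0)
  let pt : K → Fin 4 → K := fun R => Pp R • l₀ + R • l₁ + y
  let D : K → (Fin 4 → K) → K := fun R h => 2 * Pp R * T.tri l₀ y h + 2 * R * T.tri l₁ y h + T.tri y y h
  obtain ⟨R, hR⟩ : ∃ R, T.tri y1 y1 y1 * A0 - 3 * D R y1 * A1 ≠ 0 := by
    by_cases hA1z : A1 = 0
    · refine ⟨0, ?_⟩
      rw [hA1z, mul_zero, sub_zero]
      refine mul_ne_zero (fun hC => ?_) hA0n
      have hB1z : B1 = 0 := (mul_eq_zero.1 (by rw [hQ1, hA1z, mul_zero] : A0 * B1 = 0)).resolve_left hA0n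
      let φ : (Fin 4 → K) →ₗ[K] K := B.coord 0 y1 • B.coord 1 - B.coord 1 y1 • B.coord 0
      have hl2 : ∀ i, B i = ![l₃, l₂, l₀, l₁] i := fun i => by simp [B]
      have c1y : B.coord 1 y = 1 ∧ B.coord 0 y = s := by
        have e3 : l₃ = B 0 := (hl2 0).symm
        have e2 : l₂ = B 1 := (hl2 1).symm
        rw [hy, e3, e2]
        simp
      have c3 : B.coord 1 l₃ = 0 ∧ B.coord 0 l₃ = 1 := by
        rw [show l₃ = B 0 from (hl2 0).symm]; simp
      have hnz : ¬ (B.coord 1 y1 = 0 ∧ B.coord 0 y1 = 0) := by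
        rintro ⟨z1, z0⟩
        simp only [hy1, map_sub, map_smul, smul_eq_mul, c1y.1, c1y.2, c3.1, c3.2] at z1 z0
        refine hWn ?_
        linear_combination z0 / 2 - s * z1 / 2
      have hφ : φ ≠ 0 := fun h => hnz ⟨by
          have := LinearMap.congr_fun h (B 0); simpa [φ] using this, by
          have := LinearMap.congr_fun h (B 1); simpa [φ] using this⟩
      obtain ⟨x, hx, hx3⟩ := not_plane hF hirr φ hφ
      obtain ⟨m, hm⟩ : ∃ m : K, B.coord 1 x = m * B.coord 1 y1 ∧ B.coord 0 x = m * B.coord 0 y1 := by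
        simp only [φ, LinearMap.sub_apply, LinearMap.smul_apply, smul_eq_mul] at hx
        by_cases h1 : B.coord 1 y1 = 0
        · refine ⟨B.coord 0 x / B.coord 0 y1, ?_, (div_mul_cancel₀ _ fun h => hnz ⟨h1, h⟩).symm⟩
          rw [h1, zero_mul, sub_zero] at hx
          rw [h1, mul_zero]
          exact (mul_eq_zero.1 hx).resolve_left fun h => hnz ⟨h1, h⟩
        · refine ⟨B.coord 1 x / B.coord 1 y1, (div_mul_cancel₀ _ h1).symm, ?_⟩
          field_simp
          linear_combination -hx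
      refine hx3 ?_
      have hy1' := hcoord y1
      have c2y : B.coord 2 y1 = 0 ∧ B.coord 3 y1 = 0 := by
        rw [hy1, hy, show l₃ = B 0 from (hl2 0).symm, show l₂ = B 1 from (hl2 1).symm]
        simp
      rw [c2y.1, c2y.2, zero_smul, zero_smul, zero_add, zero_add] at hy1'
      have hxe : x = B.coord 2 x • l₀ + B.coord 3 x • l₁ + m • y1 := by
        conv_lhs => rw [hcoord x, hm.1, hm.2]
        conv_rhs => rw [hy1']
        module
      rw [hxe, expF]
      simp only [map_smul, LinearMap.smul_apply, smul_eq_mul, ← hA1, ← hB1, hA1z, hB1z, hC]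
      ring
    · by_contra hc
      push Not at hc
      have h0 := hc 0
      have h1 := hc 1
      have hkey : D 1 y1 - D 0 y1 = 2 * (T.tri l₁ y y1 - B0 * T.tri l₀ y y1 / A0) := by
        simp only [D, Pp]; field_simp; ring
      have hD : D 1 y1 - D 0 y1 = 0 := by
        refine (mul_eq_zero.1 (?_ : (D 1 y1 - D 0 y1) * A1 = 0)).resolve_right hA1z
        linear_combination (h0 - h1) / 3
      rw [hkey] at hD
      refine mul_ne_zero (mul_ne_zero (show (-2 : K) ≠ 0 by norm_num) ?_) hWn (hy1d.symm.trans ?_)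
      · intro hz; exact hWn (by linear_combination -hz)
      · field_simp at hD
        linear_combination -hD / 2
  set b := pt R with hb
  have hb3 : T.tri b b b = 0 := by
    rw [hb, expF, ← hA0, ← hB0]
    simp only [Pp]; field_simp; ring
  have hbl : T.tri b b l₀ = A0 := by
    have := expP 1 0 (Pp R) R 0 y
    rw [one_smul, zero_smul, add_zero, add_zero] at this
    rw [hb]
    show T.tri (Pp R • l₀ + R • l₁ + y) (Pp R • l₀ + R • l₁ + y) l₀ = A0
    rw [this]
    simp [← hA0]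
  have hbb : T.tri b b ≠ 0 := fun h => hA0n (by rw [← hbl, h]; rfl)
  refine ⟨b, fun h => hbb (by simp [h]), (ofPoly_self_eq_zero hF _).1 hb3, hbb, ?_⟩
  rintro ⟨M₁, M₂, M₃, hM⟩
  -- points of the tangent plane
  let xT : K → (Fin 4 → K) → (Fin 4 → K) := fun r h => (-(r * B0 + D R h) / A0) • l₀ + r • l₁ + h
  have hxT : ∀ r h, T.tri b b (xT r h) = 0 := fun r h => by
    rw [hb, expP, ← hA0, ← hB0]
    simp only [D]; field_simp; ring
  have hxv : ∀ r h, T.tri (xT r h) (xT r h) (xT r h) * A0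
      = 3 * r * (A0 * T.tri l₁ h h - B0 * T.tri l₀ h h) + (T.tri h h h * A0 - 3 * D R h * T.tri l₀ h h) := fun r h => by
    simp only [xT]
    rw [expF]
    field_simp
    ring
  set c : Fin 4 → K := (-B0 / A0) • l₀ + (1 : K) • l₁ with hc
  have hxc : ∀ r h, xT r h = xT 0 h + r • c := fun r h => by
    simp only [xT, hc, zero_mul, zero_add, zero_smul, add_zero, smul_add, smul_smul]
    rw [show -(r * B0 + D R h) / A0 = -(D R h) / A0 + r * (-B0 / A0) by ring, add_smul, mul_one]
    abel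
  set Kc := T.tri y1 y1 y1 * A0 - 3 * D R y1 * A1
  have hconst : ∀ r, (M₁ (xT 0 y1) + r * M₁ c) * (M₂ (xT 0 y1) + r * M₂ c) * (M₃ (xT 0 y1) + r * M₃ c) * A0 = Kc := by
    intro r
    have h1 := hxv r y1
    rw [hM _ (hxT r y1), hxc r y1] at h1
    simp only [map_add, map_smul, smul_eq_mul] at h1
    rw [h1, ← hA1, ← hB1, hQ1]
    simp only [Kc]; ring
  have hMc : M₁ c = 0 ∧ M₂ c = 0 ∧ M₃ c = 0 := by
    have key : ∀ (m m' : K), (∀ r, m + r * m' ≠ 0) → m' = 0 := fun m m' h => by
      by_contra hm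
      exact h (-m / m') (by field_simp; ring)
    refine ⟨key (M₁ (xT 0 y1)) _ fun r hr => hR ?_, key (M₂ (xT 0 y1)) _ fun r hr => hR ?_,
      key (M₃ (xT 0 y1)) _ fun r hr => hR ?_⟩ <;>
      (rw [← hconst r, hr]; ring)
  obtain ⟨h, hh⟩ : ∃ h, A0 * T.tri l₁ h h - B0 * T.tri l₀ h h ≠ 0 := by
    by_contra hcn
    push Not at hcn
    refine hA0n (hindep (-B0) A0 (by linear_combination hcn l₂) ?_ (by linear_combination hcn l₃)).2
    have h2 := hcn (l₂ + l₃)
    simp only [map_add, LinearMap.add_apply, T.symm23 l₀ l₃ l₂, T.symm23 l₁ l₃ l₂] at h2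
    linear_combination (h2 - hcn l₂ - hcn l₃) / 2
  have g0 := hxv 0 h
  have g1 := hxv 1 h
  rw [hM _ (hxT _ _)] at g0 g1
  rw [hxc 1 h] at g1
  simp only [map_add, map_smul, smul_eq_mul, hMc.1, hMc.2.1, hMc.2.2, mul_zero, add_zero] at g1
  exact hh (by linear_combination (g0 - g1) / 3)

/-- The singular case. -/
theorem exists_good_of_singular (hF : F.IsHomogeneous 3) (hirr : Irreducible F)
    (hncone : ∀ v : Fin 4 → K, v ≠ 0 → ∃ x, (ofPoly F).tri x x v ≠ 0)
    {a : Fin 4 → K} (ha : a ≠ 0) (hsing : (ofPoly F).tri a a = 0) :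
    ∃ b : Fin 4 → K, b ≠ 0 ∧ eval b F = 0 ∧ (ofPoly F).tri b b ≠ 0 ∧ ¬ IsTPt (ofPoly F) b := by
  classical
  set T := ofPoly F with hTdef
  have hV : Module.finrank K (Fin 4 → K) = 4 := Module.finrank_fin_fun K
  have h0 : T.tri a a a = 0 := by rw [hsing]; rfl
  have haa : ∀ x, T.tri a a x = 0 := fun x => by rw [hsing]; rfl
  by_cases hdl : ∃ h, LinearIndependent K ![a, h] ∧ T.tri a h = 0 ∧ T.tri h h = 0
  · obtain ⟨h, hli, h1, h2⟩ := hdl
    exact exists_good_of_double_line hF hirr hncone hli hsing h1 h2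
  push Not at hdl
  by_contra hall
  push Not at hall
  have hq : ∃ x, T.tri a x x ≠ 0 := by
    obtain ⟨x, hx⟩ := hncone a ha
    exact ⟨x, by rw [T.symm13]; exact hx⟩
  have hquad : ¬ ∃ L : (Fin 4 → K) →ₗ[K] K, ∀ x, T.tri x x x = T.tri a x x * L x := by
    rintro ⟨L, hL⟩
    by_cases hL0 : L = 0
    · obtain ⟨x, hx, hx'⟩ := not_plane hF hirr (LinearMap.proj 0) (fun h => by
        simpa using LinearMap.congr_fun h (Pi.single 0 1))
      exact hx' (by rw [hL x, hL0]; simp)
    · obtain ⟨x, hx, hx'⟩ := not_plane hF hirr L hL0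
      exact hx' (by rw [hL x, hx]; simp)
  have hfinL : {U : Submodule K (Fin 4 → K) | a ∈ U ∧ T.IsLine U}.Finite :=
    Set.finite_of_encard_le_coe (Form.encard_lines_through_singular_le_six hV ha haa hq
      (fun φ hφ => not_plane hF hirr φ hφ) hquad)
  have hrep : ∀ U : Submodule K (Fin 4 → K), a ∈ U ∧ T.IsLine U → ∃ h, U = Submodule.span K {a, h} ∧
      LinearIndependent K ![a, h] := by
    rintro U ⟨haU, hU, -⟩
    obtain ⟨x, hxU, hx⟩ : ∃ x ∈ U, x ∉ Submodule.span K {a} := by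
      by_contra hc
      push Not at hc
      have := Submodule.finrank_mono (show U ≤ Submodule.span K {a} from hc)
      rw [hU, finrank_span_singleton ha] at this
      omega
    have hli : LinearIndependent K ![a, x] :=
      (LinearIndependent.pair_iff' ha).2 fun r hr => hx (hr ▸ Submodule.smul_mem _ r (Submodule.mem_span_singleton_self a))
    refine ⟨x, (Submodule.eq_of_le_of_finrank_eq ?_ ?_).symm, hli⟩
    · rw [Submodule.span_le]; rintro w (rfl | rfl) <;> assumption
    · rw [finrank_span_pair hli, hU]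
  choose! rep hrepU hrepli using hrep
  let Lines := hfinL.toFinset
  let planeOf : Submodule K (Fin 4 → K) → Submodule K (Fin 4 → K) := fun U =>
    if T.tri a (rep U) = 0 then LinearMap.ker (T.tri (rep U) (rep U)) else LinearMap.ker (T.tri a (rep U))
  let Planes : Finset (Submodule K (Fin 4 → K)) :=
    ((Lines.image planeOf) ∪ ((Lines ×ˢ Lines).image fun q => q.1 ⊔ q.2)).filter (· ≠ ⊤)
  -- a point avoiding these planes and the tangent cone at `a`
  have hφ : ∀ W ∈ Planes, ∃ φ : (Fin 4 → K) →ₗ[K] K, φ ≠ 0 ∧ W ≤ LinearMap.ker φ := fun W hW =>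
    Submodule.exists_le_ker_of_lt_top _ (lt_top_iff_ne_top.2 (Finset.mem_filter.1 hW).2)
  choose! φ hφ0 hφW using hφ
  have hpv : PolyVec (singMap T a) := PolyVec.singMap F (PolyVec.const a) fun i => coord_mem_polyFuns i
  obtain ⟨Q, hQ⟩ := mem_polyFuns_iff.1 (polyFuns_tri F (u := fun _ => a) (w := fun v => v) (z := fun v => v)
    (PolyVec.const a) (fun i => coord_mem_polyFuns i) (fun i => coord_mem_polyFuns i))
  choose Qp hQp using fun W : Submodule K (Fin 4 → K) => mem_polyFuns_iff.1 (hpv.linear (φ W))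
  have hne : Q * ∏ W ∈ Planes, Qp W ≠ 0 := by
    refine mul_ne_zero (fun h => ?_) (Finset.prod_ne_zero_iff.2 fun W hW h => ?_)
    · obtain ⟨x, hx⟩ := hq
      exact hx (by rw [← hQ, h, map_zero])
    · obtain ⟨x, hx⟩ := exists_singMap_ne_zero hF hirr hsing (hncone a ha) (hφ0 W hW)
      exact hx (by rw [← hQp, h, map_zero])
  obtain ⟨x, hx⟩ : ∃ x, eval x (Q * ∏ W ∈ Planes, Qp W) ≠ 0 := by
    by_contra hc
    push Not at hc
    exact hne (MvPolynomial.funext fun x => by rw [hc x, map_zero])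
  rw [map_mul, map_prod, mul_ne_zero_iff, Finset.prod_ne_zero_iff] at hx
  obtain ⟨hxQ, hxP⟩ := hx
  rw [hQ] at hxQ
  replace hxQ : T.tri a x x ≠ 0 := hxQ
  set b := singMap T a x with hb
  have hbmem : T.tri b b b = 0 := singMap_mem T h0 (haa x)
  have hbba : T.tri b b a ≠ 0 := by
    have e : T.tri b b a = 9 * T.tri a x x ^ 3 := by
      simp only [hb, singMap, map_sub, map_smul, LinearMap.sub_apply, LinearMap.smul_apply, smul_eq_mul, h0,
        haa, T.symm12 x a a, T.symm23 a x a, T.rot a x x]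
      ring
    rw [e]; exact mul_ne_zero (by norm_num) (pow_ne_zero _ hxQ)
  have hbb : T.tri b b ≠ 0 := fun h => hbba (by rw [h]; rfl)
  have hb0 : b ≠ 0 := fun h => hbb (by simp [h])
  obtain ⟨U, hbU, ⟨hU2, hUS⟩, hUT⟩ := exists_line_of_isTPt hF hirr hb0 hbmem hbb
    (hall b hb0 ((ofPoly_self_eq_zero hF _).1 hbmem) hbb)
  have haU : a ∉ U := fun h => hbba (hUT h)
  -- the quadratic form of the tangent cone on the line
  obtain ⟨u₁, u₂, hu₁, hu₂, hu, hUeq⟩ : ∃ u₁ u₂, u₁ ∈ U ∧ u₂ ∈ U ∧ LinearIndependent K ![u₁, u₂] ∧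
      U = Submodule.span K {u₁, u₂} := by
    let Bu := Module.finBasisOfFinrankEq K ↥U hU2
    have hli : LinearIndependent K ![(Bu 0 : Fin 4 → K), (Bu 1 : Fin 4 → K)] := by
      have := Bu.linearIndependent.map' U.subtype U.ker_subtype
      have e : ![(Bu 0 : Fin 4 → K), (Bu 1 : Fin 4 → K)] = U.subtype ∘ Bu := by funext i; fin_cases i <;> rfl
      rw [e]; exact this
    refine ⟨Bu 0, Bu 1, (Bu 0).2, (Bu 1).2, hli, (Submodule.eq_of_le_of_finrank_eq ?_ ?_).symm⟩
    · rw [Submodule.span_le]; rintro w (rfl | rfl) <;> [exact (Bu 0).2; exact (Bu 1).2]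
    · rw [finrank_span_pair hli, hU2]
  obtain ⟨p, q, p', q', hfac⟩ :=
    binary_quadratic_factor (T.tri a u₁ u₁) (2 * T.tri a u₁ u₂) (T.tri a u₂ u₂)
  have hqexp : ∀ s t : K, T.tri a (s • u₁ + t • u₂) (s • u₁ + t • u₂) = (p * s + q * t) * (p' * s + q' * t) := by
    intro s t
    simp only [map_add, map_smul, LinearMap.add_apply, LinearMap.smul_apply, smul_eq_mul, T.symm23 a u₂ u₁]
    linear_combination hfac s t
  have hbex : ∃ s t : K, b = s • u₁ + t • u₂ := by
    rw [hUeq, Submodule.mem_span_pair] at hbU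
    obtain ⟨s, t, h⟩ := hbU
    exact ⟨s, t, h.symm⟩
  obtain ⟨sb, tb, hbst⟩ := hbex
  have hqb : T.tri a b b ≠ 0 := by rw [T.rot]; exact hbba
  have hfac0 : (p ≠ 0 ∨ q ≠ 0) ∧ (p' ≠ 0 ∨ q' ≠ 0) := by
    constructor <;>
    · by_contra hc
      push Not at hc
      exact hqb (by rw [hbst, hqexp, hc.1, hc.2]; ring)
  -- the two lines through `a`
  set h₁ := (-q) • u₁ + p • u₂ with hh₁
  set h₂ := (-q') • u₁ + p' • u₂ with hh₂
  have hz₁ : T.tri a h₁ h₁ = 0 := by rw [hh₁, hqexp]; ring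
  have hz₂ : T.tri a h₂ h₂ = 0 := by rw [hh₂, hqexp]; ring
  have hh₁U : h₁ ∈ U := add_mem (U.smul_mem _ hu₁) (U.smul_mem _ hu₂)
  have hh₂U : h₂ ∈ U := add_mem (U.smul_mem _ hu₁) (U.smul_mem _ hu₂)
  have hnz : ∀ c d : K, (c ≠ 0 ∨ d ≠ 0) → (-d) • u₁ + c • u₂ ≠ 0 := fun c d hcd h => by
    have := Fintype.linearIndependent_iff.1 hu ![-d, c] (by simpa [Fin.sum_univ_two] using h)
    have t0 := this 0
    have t1 := this 1
    simp at t0 t1
    rcases hcd with hcd | hcd <;> contradiction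
  have hlineOf : ∀ h ∈ U, h ≠ 0 → T.tri a h h = 0 →
      LinearIndependent K ![a, h] ∧ Submodule.span K {a, h} ∈ Lines := by
    intro h hh hh0 hz
    have hli : LinearIndependent K ![a, h] := (LinearIndependent.pair_iff' ha).2 fun r hr => by
      by_cases hr0 : r = 0
      · exact hh0 (by rw [← hr, hr0, zero_smul])
      · exact haU (by rw [← inv_smul_smul₀ hr0 a, hr]; exact U.smul_mem _ hh)
    refine ⟨hli, hfinL.mem_toFinset.2 ⟨Submodule.subset_span (Or.inl rfl), finrank_span_pair hli, ?_⟩⟩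
    intro w hw
    obtain ⟨s, t, rfl⟩ := Submodule.mem_span_pair.1 hw
    rw [T.expand₂, h0, haa, hz, hUS h hh]
    ring
  obtain ⟨hli₁, hL₁⟩ := hlineOf h₁ hh₁U (hnz p q hfac0.1) hz₁
  obtain ⟨hli₂, hL₂⟩ := hlineOf h₂ hh₂U (hnz p' q' hfac0.2) hz₂
  have havoid : ∀ W ∈ Planes, b ∉ W := fun W hW hmem => hxP W hW (by rw [hQp]; exact hφW W hW hmem)
  by_cases hpar : p * q' - q * p' = 0
  · -- the plane is tangent along a line
    have hker : ∀ w ∈ U, T.tri a h₁ w = 0 := by
      intro w hw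
      rw [hUeq, Submodule.mem_span_pair] at hw
      obtain ⟨s, t, rfl⟩ := hw
      have k1 : T.tri a u₁ u₁ = p * p' := by linear_combination hfac 1 0
      have k3 : T.tri a u₂ u₂ = q * q' := by linear_combination hfac 0 1
      have k2 : 2 * T.tri a u₁ u₂ = p * q' + q * p' := by linear_combination hfac 1 1 - k1 - k3
      simp only [hh₁, map_add, map_smul, LinearMap.add_apply, LinearMap.smul_apply, smul_eq_mul,
        T.symm23 a u₂ u₁]
      linear_combination (-q * s) * k1 + ((p * s - q * t) / 2) * k2 + (p * t) * k3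
        + ((p * s + q * t) / 2) * hpar
    have hrep₁ := hrepU _ ⟨Submodule.subset_span (Or.inl rfl), (hfinL.mem_toFinset.1 hL₁).2⟩
    set g := rep (Submodule.span K {a, h₁}) with hg
    obtain ⟨α, β, hgab⟩ : ∃ α β : K, α • a + β • h₁ = g := Submodule.mem_span_pair.1
      (by rw [hrep₁]; exact Submodule.subset_span (Or.inr rfl))
    have hgb : T.tri a g b = 0 ∧ T.tri g g b = 0 := by
      have e1 : T.tri h₁ h₁ b = 0 := hUS.tri_eq_zero hh₁U hh₁U hbU
      have e2 : T.tri a h₁ b = 0 := hker b hbU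
      constructor <;> rw [← hgab] <;>
        simp [haa, e1, e2, T.symm12 h₁ a]
    refine havoid (planeOf (Submodule.span K {a, h₁})) (Finset.mem_filter.2 ⟨Finset.mem_union_left _
      (Finset.mem_image_of_mem _ hL₁), ?_⟩) ?_
    · simp only [planeOf, ← hg]
      split_ifs with hag
      · intro htop
        exact hdl g (hrepli _ ⟨Submodule.subset_span (Or.inl rfl), (hfinL.mem_toFinset.1 hL₁).2⟩) hag
          (LinearMap.ker_eq_top.1 htop)
      · exact fun htop => hag (LinearMap.ker_eq_top.1 htop)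
    · simp only [planeOf, ← hg]
      split_ifs
      · exact hgb.2
      · exact hgb.1
  · -- the plane spanned by two lines through `a`
    have hspan : U ≤ Submodule.span K {a, h₁} ⊔ Submodule.span K {a, h₂} := by
      rw [hUeq, Submodule.span_le]
      have m₁ : h₁ ∈ Submodule.span K {a, h₁} ⊔ Submodule.span K {a, h₂} :=
        Submodule.mem_sup_left (Submodule.subset_span (Or.inr rfl))
      have m₂ : h₂ ∈ Submodule.span K {a, h₁} ⊔ Submodule.span K {a, h₂} :=
        Submodule.mem_sup_right (Submodule.subset_span (Or.inr rfl))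
      rintro w (rfl | rfl)
      · have e : (p * q' - q * p') • w = p' • h₁ - p • h₂ := by rw [hh₁, hh₂]; module
        rw [SetLike.mem_coe, ← inv_smul_smul₀ hpar w, e]
        exact Submodule.smul_mem _ _ (Submodule.sub_mem _ (Submodule.smul_mem _ _ m₁) (Submodule.smul_mem _ _ m₂))
      · have e : (p * q' - q * p') • w = q' • h₁ - q • h₂ := by rw [hh₁, hh₂]; module
        rw [SetLike.mem_coe, ← inv_smul_smul₀ hpar w, e]
        exact Submodule.smul_mem _ _ (Submodule.sub_mem _ (Submodule.smul_mem _ _ m₁) (Submodule.smul_mem _ _ m₂))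
    refine havoid _ (Finset.mem_filter.2 ⟨Finset.mem_union_right _
      (Finset.mem_image.2 ⟨(_, _), Finset.mem_product.2 ⟨hL₁, hL₂⟩, rfl⟩), ?_⟩) (hspan hbU)
    intro htop
    have h1 := Submodule.finrank_sup_add_finrank_inf_eq (Submodule.span K {a, h₁}) (Submodule.span K {a, h₂})
    have h2 : 1 ≤ Module.finrank K ↥(Submodule.span K {a, h₁} ⊓ Submodule.span K {a, h₂}) :=
      (finrank_span_singleton (K := K) ha).symm.le.trans (Submodule.finrank_mono (by
        rw [Submodule.span_singleton_le_iff_mem]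
        exact ⟨Submodule.subset_span (Or.inl rfl), Submodule.subset_span (Or.inl rfl)⟩))
    change Submodule.span K {a, h₁} ⊔ Submodule.span K {a, h₂} = ⊤ at htop
    rw [htop, finrank_top, hV, finrank_span_pair hli₁, finrank_span_pair hli₂] at h1
    omega

/-- A smooth point which is not a T-point exists. -/
theorem exists_good (hF : F.IsHomogeneous 3) (hirr : Irreducible F)
    (hncone : ∀ v : Fin 4 → K, v ≠ 0 → ∃ x, (ofPoly F).tri x x v ≠ 0) :
    ∃ b : Fin 4 → K, b ≠ 0 ∧ eval b F = 0 ∧ (ofPoly F).tri b b ≠ 0 ∧ ¬ IsTPt (ofPoly F) b := by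
  by_cases hsing : ∃ a : Fin 4 → K, a ≠ 0 ∧ (ofPoly F).tri a a = 0
  · obtain ⟨a, ha, hsing⟩ := hsing
    exact exists_good_of_singular hF hirr hncone ha hsing
  · push Not at hsing
    have hsm : (ofPoly F).Smooth := fun v hv _ => by
      by_contra hc
      push Not at hc
      exact hsing v hv (LinearMap.ext hc)
    obtain ⟨b, hb, hb0, hT⟩ := exists_good_of_smooth hF hirr hsm
    exact ⟨b, hb, hb0, hsing b hb, hT⟩

end Groth.CubicPfaff
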