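import Groth.Agent.CubicGeom.Tools
import Mathlib.RingTheory.Ideal.Quotient.Defs
import Mathlib.RingTheory.MvPolynomial.Homogeneous

/-!
A linear Pfaffian representation of a cubic surface through five points in general position.
-/

set_option autoImplicit false

namespace Groth.CubicPfaff

open MvPolynomial Groth.CubicGeom

variable {k : Type*} [Field k]

theorem det_six {R : Type*} [CommRing R] (a b c d : R) (l : Fin 5 → R) :
    (!![0, -d, c, d, -c, l 0; d, 0, -b, -d, 0, l 1; -c, b, 0, 0, c, l 2; -d, d, 0, 0, a, l 3;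
       c, 0, -c, -a, 0, l 4; -l 0, -l 1, -l 2, -l 3, -l 4, 0] : Matrix (Fin 6) (Fin 6) R).det
      = (l 0 * (-(a*b) + c*d) - l 1 * (a*c - c*d) + l 2 * (-(a*d) + c*d) - l 3 * (-(c*d) + b*c) + l 4 * (c*d - b*d)) ^ 2 := by
  simp [Matrix.det_succ_row_zero, Fin.sum_univ_succ, Fin.succAbove]
  ring

/-- The five quadrics through the five standard points. -/
noncomputable def quad : Fin 5 → MvPolynomial (Fin 4) k :=
  ![-(X 0 * X 1) + X 2 * X 3, -(X 0 * X 2 - X 2 * X 3), -(X 0 * X 3) + X 2 * X 3,
    -(-(X 2 * X 3) + X 1 * X 2), X 2 * X 3 - X 1 * X 3]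

theorem isHomogeneous_quad (i : Fin 5) : (quad (k := k) i).IsHomogeneous 2 := by
  have h : ∀ a b : Fin 4, (X a * X b : MvPolynomial (Fin 4) k).IsHomogeneous 2 :=
    fun a b => (isHomogeneous_X k a).mul (isHomogeneous_X k b)
  fin_cases i
  · exact (h 0 1).neg.add (h 2 3)
  · exact ((h 0 2).sub (h 2 3)).neg
  · exact (h 0 3).neg.add (h 2 3)
  · exact ((h 2 3).neg.add (h 1 2)).neg
  · exact (h 2 3).sub (h 1 3)

/-- The cubic monomials modulo the five quadrics. -/
theorem mk_mul₃ (i j l : Fin 4) (h : ¬ (i = j ∧ j = l)) :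
    Ideal.Quotient.mk (Ideal.span (Set.range (quad (k := k)))) (X i * X j * X l) =
      Ideal.Quotient.mk (Ideal.span (Set.range (quad (k := k)))) (X 0 * X 2 * X 3) := by
  set π := Ideal.Quotient.mk (Ideal.span (Set.range (quad (k := k))))
  set x : Fin 4 → MvPolynomial (Fin 4) k ⧸ Ideal.span (Set.range (quad (k := k))) := fun n => π (X n)
  have e01 : x 0 * x 1 = x 2 * x 3 := by
    show π (X 0) * π (X 1) = π (X 2) * π (X 3)
    rw [← map_mul, ← map_mul, Ideal.Quotient.eq,
      show (X 0 * X 1 - X 2 * X 3 : MvPolynomial (Fin 4) k) = -quad 0 by simp [quad] <;> ring]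
    exact neg_mem (Ideal.subset_span ⟨0, rfl⟩)
  have e02 : x 0 * x 2 = x 2 * x 3 := by
    show π (X 0) * π (X 2) = π (X 2) * π (X 3)
    rw [← map_mul, ← map_mul, Ideal.Quotient.eq,
      show (X 0 * X 2 - X 2 * X 3 : MvPolynomial (Fin 4) k) = -quad 1 by simp [quad] <;> ring]
    exact neg_mem (Ideal.subset_span ⟨1, rfl⟩)
  have e03 : x 0 * x 3 = x 2 * x 3 := by
    show π (X 0) * π (X 3) = π (X 2) * π (X 3)
    rw [← map_mul, ← map_mul, Ideal.Quotient.eq,
      show (X 0 * X 3 - X 2 * X 3 : MvPolynomial (Fin 4) k) = -quad 2 by simp [quad] <;> ring]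
    exact neg_mem (Ideal.subset_span ⟨2, rfl⟩)
  have e12 : x 1 * x 2 = x 2 * x 3 := by
    show π (X 1) * π (X 2) = π (X 2) * π (X 3)
    rw [← map_mul, ← map_mul, Ideal.Quotient.eq,
      show (X 1 * X 2 - X 2 * X 3 : MvPolynomial (Fin 4) k) = -quad 3 by simp [quad] <;> ring]
    exact neg_mem (Ideal.subset_span ⟨3, rfl⟩)
  have e13 : x 1 * x 3 = x 2 * x 3 := by
    show π (X 1) * π (X 3) = π (X 2) * π (X 3)
    rw [← map_mul, ← map_mul, Ideal.Quotient.eq,
      show (X 1 * X 3 - X 2 * X 3 : MvPolynomial (Fin 4) k) = -quad 4 by simp [quad] <;> ring]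
    exact neg_mem (Ideal.subset_span ⟨4, rfl⟩)
  have w : ∀ p q : Fin 4, p ≠ q → x p * x q = x 2 * x 3 := by
    intro p q hpq
    fin_cases p <;> fin_cases q <;> first
      | exact absurd rfl hpq
      | exact e01
      | exact e02
      | exact e03
      | exact e12
      | exact e13
      | exact rfl
      | exact (mul_comm _ _).trans e01
      | exact (mul_comm _ _).trans e02
      | exact (mul_comm _ _).trans e03
      | exact (mul_comm _ _).trans e12
      | exact (mul_comm _ _).trans e13
      | exact mul_comm _ _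
  have wl : ∀ p, x 2 * x 3 * x p = x 0 * x 2 * x 3 := fun p => by
    fin_cases p
    · show x 2 * x 3 * x 0 = _
      ring
    · show x 2 * x 3 * x 1 = _
      rw [mul_assoc, w 3 1 (by decide), ← w 0 3 (by decide)]; ring
    · show x 2 * x 3 * x 2 = _
      rw [← w 0 1 (by decide), mul_assoc, w 1 2 (by decide)]; ring
    · show x 2 * x 3 * x 3 = _
      rw [← w 0 1 (by decide), mul_assoc, w 1 3 (by decide)]; ring
  rw [map_mul, map_mul, map_mul, map_mul]
  show x i * x j * x l = x 0 * x 2 * x 3
  by_cases hij : i = j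
  · subst hij
    rw [mul_assoc, w i l fun e => h ⟨rfl, e⟩, mul_comm, wl]
  · rw [w i j hij, wl]

theorem exists_triple {m : Fin 4 →₀ ℕ} (hm : m.degree = 3) :
    ∃ i j l : Fin 4, (monomial m (1 : k)) = X i * X j * X l := by
  have hc : m.toMultiset.card = 3 := by
    rw [Finsupp.card_toMultiset]; exact hm
  obtain ⟨i, j, l, e⟩ := Multiset.card_eq_three.1 hc
  refine ⟨i, j, l, ?_⟩
  have : m = Finsupp.single i 1 + Finsupp.single j 1 + Finsupp.single l 1 := by
    apply (Finsupp.orderIsoMultiset (ι := Fin 4)).injective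
    show m.toMultiset = Finsupp.toMultiset _
    rw [e]
    simp [Multiset.insert_eq_cons]
  subst this
  simp [X, monomial_mul]

/-- A homogeneous component of a product with a homogeneous factor. -/
theorem homogeneousComponent_mul_right {σ : Type*} (g : MvPolynomial σ k) {q : MvPolynomial σ k} {n m : ℕ}
    (hq : q.IsHomogeneous m) :
    homogeneousComponent (n + m) (g * q) = homogeneousComponent n g * q := by
  conv_lhs => rw [← sum_homogeneousComponent g, Finset.sum_mul, map_sum]
  rw [Finset.sum_eq_single n]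
  · rw [homogeneousComponent_of_mem ((homogeneousComponent_isHomogeneous n g).mul hq)]
    simp
  · intro i _ hi
    rw [homogeneousComponent_of_mem ((homogeneousComponent_isHomogeneous i g).mul hq)]
    simp [hi, Ne.symm hi]
  · intro hn
    rw [Finset.mem_range, not_lt] at hn
    rw [homogeneousComponent_eq_zero n g (by omega)]
    simp

/-- Cubics through the five standard points. -/
theorem exists_linear_coeffs {G : MvPolynomial (Fin 4) k} (hG : G.IsHomogeneous 3)
    (h1 : ∀ i : Fin 4, eval (Pi.single i 1) G = 0) (h2 : eval (fun _ => 1) G = 0) :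
    ∃ l : Fin 5 → MvPolynomial (Fin 4) k, (∀ i, (l i).IsHomogeneous 1) ∧ G = ∑ i, l i * quad i := by
  classical
  set I := Ideal.span (Set.range (quad (k := k))) with hI
  have key : ∀ m ∈ G.support, monomial m (coeff m G) - C (coeff m G) * (X 0 * X 2 * X 3) ∈ I := by
    intro m hm
    have hdeg : m.degree = 3 := by
      by_contra hne
      exact (mem_support_iff.1 hm) (hG.coeff_eq_zero hne)
    obtain ⟨i, j, l, e⟩ := exists_triple (k := k) hdeg
    by_cases hijl : i = j ∧ j = l
    · obtain ⟨rfl, rfl⟩ := hijl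
      exfalso
      refine (mem_support_iff.1 hm) ?_
      have hmi : m = Finsupp.single i 3 := by
        rw [show X i * X i * X i = (monomial (Finsupp.single i 3)) (1 : k) by
          rw [← pow_two, ← pow_succ, X_pow_eq_monomial]] at e
        exact monomial_left_injective one_ne_zero e
      have hv := h1 i
      rw [eval_eq, Finset.sum_eq_single m] at hv
      · simpa [hmi, Finsupp.support_single_ne_zero] using hv
      · intro d hd hne
        apply mul_eq_zero_of_right
        obtain ⟨n, hn, hn0⟩ : ∃ n, n ≠ i ∧ d n ≠ 0 := by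
          by_contra hc
          push Not at hc
          refine hne (hmi ▸ ?_)
          have hd3 : d.degree = 3 := by
            by_contra hne'
            exact (mem_support_iff.1 hd) (hG.coeff_eq_zero hne')
          have hds : d = Finsupp.single i (d i) := by
            ext n
            by_cases hn : n = i
            · simp [hn]
            · simp [hc n hn, hn]
          rw [hds, Finsupp.degree_single] at hd3
          rw [hds, hd3]
        exact Finset.prod_eq_zero (Finsupp.mem_support_iff.2 hn0) (by simp [hn, hn0])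
      · intro h; exact absurd hm h
    · rw [show monomial m (coeff m G) = C (coeff m G) * monomial m 1 by rw [C_mul_monomial, mul_one],
        ← mul_sub, e]
      exact I.mul_mem_left _ (Ideal.Quotient.eq.1 (mk_mul₃ i j l hijl))
  have hsum : G - C (∑ m ∈ G.support, coeff m G) * (X 0 * X 2 * X 3) ∈ I := by
    conv => arg 2; arg 1; rw [G.as_sum]
    rw [map_sum, Finset.sum_mul, ← Finset.sum_sub_distrib]
    exact I.sum_mem key
  have hc : (∑ m ∈ G.support, coeff m G) = 0 := by
    have : eval (fun _ => (1 : k)) G = ∑ m ∈ G.support, coeff m G := by simp [eval_eq]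
    rw [← this, h2]
  rw [hc, map_zero, zero_mul, sub_zero, hI, Ideal.mem_span_range_iff_exists_fun] at hsum
  obtain ⟨g, hg⟩ := hsum
  refine ⟨fun i => homogeneousComponent 1 (g i), fun i => homogeneousComponent_isHomogeneous 1 _, ?_⟩
  calc G = homogeneousComponent (1 + 2) G := by
        rw [homogeneousComponent_of_mem hG]; simp
    _ = _ := by
        conv_lhs => rw [← hg, map_sum]
        exact Finset.sum_congr rfl fun i _ => homogeneousComponent_mul_right _ (isHomogeneous_quad i)

/-- Linear substitution preserves homogeneity. -/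
theorem isHomogeneous_subst {n m d : ℕ} (A : Matrix (Fin n) (Fin m) k) {p : MvPolynomial (Fin n) k}
    (hp : p.IsHomogeneous d) : (subst A p).IsHomogeneous d := by
  have := hp.eval₂ (MvPolynomial.C : k →+* MvPolynomial (Fin m) k) (fun i => ∑ j, C (A i j) * X j)
    (fun r => isHomogeneous_C _ r) (n := 1) (fun i => IsHomogeneous.sum _ _ _ fun j _ => by
      simpa using (isHomogeneous_C _ (A i j)).mul (isHomogeneous_X k j))
  rw [subst, aeval_def]
  simpa using this

/-- The representation attached to five points in general position. -/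
theorem exists_rep [CharZero k] {F : MvPolynomial (Fin 4) k} (hF : F.IsHomogeneous 3) (p : Fin 5 → (Fin 4 → k))
    (hp : ∀ j, eval (p j) F = 0)
    (hli : ∀ j : Fin 5, LinearIndependent k (fun i : Fin 4 => p (j.succAbove i))) :
    ∃ M : Matrix (Fin 6) (Fin 6) (MvPolynomial (Fin 4) k),
      (∀ i j, (M i j).IsHomogeneous 1) ∧ M.transpose = -M ∧ (∀ i, M i i = 0) ∧
        ∃ c : k, c ≠ 0 ∧ M.det = C c * F ^ 2 := by
  classical
  let B := basisOfLinearIndependentOfCardEqFinrank (hli 4) (by simp)
  have hB : ∀ i, B i = p i.castSucc := fun i => by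
    simp only [B, coe_basisOfLinearIndependentOfCardEqFinrank]
    congr 1
    revert i; decide
  set lam : Fin 4 → k := fun i => B.repr (p 4) i with hlamdef
  have hsum : ∑ i, lam i • p i.castSucc = p 4 := by
    conv_rhs => rw [← B.sum_repr (p 4)]
    exact Finset.sum_congr rfl fun i _ => by rw [hB]
  have cne : ∀ n : Fin 4, n.castSucc ≠ (4 : Fin 5) := by decide
  have hlam : ∀ i, lam i ≠ 0 := fun i h => by
    let g : Fin 5 → k := fun j => if hj : j = 4 then -1 else lam ⟨j, by omega⟩
    have hg : ∑ n, g ((i.castSucc).succAbove n) • p ((i.castSucc).succAbove n) = 0 := by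
      have h5 : ∑ j, g j • p j = 0 := by
        rw [Fin.sum_univ_castSucc]
        have : ∀ n : Fin 4, g n.castSucc = lam n := fun n => by
          simp only [g]; rw [dif_neg (cne n)]; rfl
        simp only [this, hsum, g, Fin.reduceLast, dite_true]
        simp
      rw [Fin.sum_univ_succAbove _ i.castSucc] at h5
      have : g i.castSucc = 0 := by
        simp only [g]; rw [dif_neg (cne i)]; exact h
      simpa [this] using h5
    have := Fintype.linearIndependent_iff.1 (hli i.castSucc) _ hg
    obtain ⟨n, hn⟩ := Fin.exists_succAbove_eq (cne i).symm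
    have h4 := this n
    rw [hn] at h4
    simp [g] at h4
  let A : Matrix (Fin 4) (Fin 4) k := Matrix.of fun r c => lam c * p c.castSucc r
  have hA : ∀ v, A.mulVec v = ∑ i, (v i * lam i) • p i.castSucc := fun v => by
    funext r
    simp [A, Matrix.mulVec, dotProduct, Finset.sum_apply]
    exact Finset.sum_congr rfl fun i _ => by ring
  have hdet : IsUnit A.det := by
    rw [← Matrix.isUnit_iff_isUnit_det, ← Matrix.mulVec_injective_iff_isUnit]
    intro v w hvw
    rw [hA, hA] at hvw
    have h4 : LinearIndependent k fun i : Fin 4 => p i.castSucc := by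
      have := B.linearIndependent
      rwa [show (B : Fin 4 → Fin 4 → k) = fun i => p i.castSucc from funext hB] at this
    funext i
    have h0 : ∑ j, ((v j - w j) * lam j) • p j.castSucc = 0 := by
      simp only [sub_mul, sub_smul, Finset.sum_sub_distrib, hvw, sub_self]
    have := Fintype.linearIndependent_iff.1 h4 _ h0 i
    exact sub_eq_zero.1 ((mul_eq_zero.1 this).resolve_right (hlam i))
  have hev : ∀ (c : k) x, eval x F = 0 → eval (c • x) F = 0 := fun c x hx => by
    rw [← ofPoly_self_eq_zero hF] at hx ⊢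
    simp [hx]
  obtain ⟨l, hl, hG⟩ := exists_linear_coeffs (isHomogeneous_subst A hF)
    (fun i => by
      rw [eval_subst, hA, Finset.sum_eq_single i (fun j _ hj => by simp [hj]) (by simp)]
      simpa using hev (lam i) _ (hp _))
    (by rw [eval_subst, hA]; simpa [hsum] using hp 4)
  let x : Fin 4 → MvPolynomial (Fin 4) k := X
  let M₀ : Matrix (Fin 6) (Fin 6) (MvPolynomial (Fin 4) k) :=
    !![0, -x 3, x 2, x 3, -x 2, l 0; x 3, 0, -x 1, -x 3, 0, l 1; -x 2, x 1, 0, 0, x 2, l 2;
       -x 3, x 3, 0, 0, x 0, l 3; x 2, 0, -x 2, -x 0, 0, l 4; -l 0, -l 1, -l 2, -l 3, -l 4, 0]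
  have hM₀ : ∀ i j, (M₀ i j).IsHomogeneous 1 := by
    intro i j
    fin_cases i <;> fin_cases j <;>
      first
        | exact isHomogeneous_zero _ _ _
        | exact isHomogeneous_X k _
        | exact (isHomogeneous_X k _).neg
        | exact hl _
        | exact (hl _).neg
  refine ⟨M₀.map (subst A⁻¹), fun i j => isHomogeneous_subst _ (hM₀ i j), ?_, fun i => ?_, 1, one_ne_zero, ?_⟩
  · refine Matrix.ext fun i j => ?_
    have : M₀ j i = -M₀ i j := by fin_cases i <;> fin_cases j <;> simp [M₀]
    simp [Matrix.transpose_apply, this]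
  · have : M₀ i i = 0 := by fin_cases i <;> simp [M₀]
    simp [this]
  · rw [← AlgHom.mapMatrix_apply, ← AlgHom.map_det]
    have hd : M₀.det = subst A F ^ 2 := by
      exact (det_six (x 0) (x 1) (x 2) (x 3) l).trans (by
      rw [hG, Fin.sum_univ_five]
      congr 1
      simp only [x, quad, Matrix.cons_val_zero, Matrix.cons_val_one, Matrix.cons_val]
      ring)
    rw [hd, map_pow, map_one, one_mul]
    refine congrArg (· ^ 2) (MvPolynomial.funext fun v => ?_)
    rw [eval_subst, eval_subst, Matrix.mulVec_mulVec, Matrix.mul_nonsing_inv _ hdet, Matrix.one_mulVec]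

end Groth.CubicPfaff
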