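import Groth.Agent.CubicPfaff.Spread
import Groth.Agent.CubicPfaff.Rep
import Mathlib.LinearAlgebra.Dimension.Free

/-!
Translation between the hypotheses of the statements and trilinear forms.
-/

set_option autoImplicit false

namespace Groth.CubicPfaff

open MvPolynomial Groth.CubicGeom

variable {k K : Type*} [Field k] [Field K] [CharZero k] [CharZero K]

/-- A cubic which is no cone over the ground field is no cone over any extension. -/
theorem ncone_map (f : k →+* K) {F : MvPolynomial (Fin 4) k} (hF : F.IsHomogeneous 3)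
    (hcone : ¬ ∃ v : Fin 4 → k, v ≠ 0 ∧ ∑ i : Fin 4, v i • pderiv i F = 0) :
    ∀ v : Fin 4 → K, v ≠ 0 → ∃ x, (ofPoly (MvPolynomial.map f F)).tri x x v ≠ 0 := by
  intro v hv
  by_contra hc
  push Not at hc
  have hzero : ∑ l, C (v l) * pderiv l (MvPolynomial.map f F) = 0 := MvPolynomial.funext fun x => by
    have := hc x
    rw [ofPoly_self_self (hF.map f)] at this
    simp only [map_sum, map_mul, eval_C, map_zero]
    rw [mul_eq_zero, or_iff_right (by norm_num)] at this
    rw [← this]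
    exact Finset.sum_congr rfl fun l _ => mul_comm _ _
  algebraize [f]
  refine hv (funext fun i => ?_)
  by_contra hi
  obtain ⟨φ, hφ⟩ : ∃ φ : K →ₗ[k] k, φ (v i) = 1 := Module.Projective.exists_dual_eq_one k hi
  refine hcone ⟨fun l => φ (v l), fun h => one_ne_zero (α := k) ?_, ?_⟩
  · rw [← hφ]; exact congrFun h i
  · ext m
    have := congrArg (coeff m) hzero
    simp only [coeff_sum, coeff_C_mul, pderiv_map, coeff_map, coeff_zero] at this
    simp only [coeff_sum, coeff_smul, smul_eq_mul, coeff_zero]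
    have h2 := congrArg φ this
    rw [map_zero, map_sum] at h2
    rw [← h2]
    refine Finset.sum_congr rfl fun l _ => ?_
    rw [mul_comm (v l), show f (coeff m (pderiv l F)) = algebraMap k K (coeff m (pderiv l F)) from rfl,
      ← Algebra.smul_def, map_smul, smul_eq_mul, mul_comm]

/-- The polynomial form of the T-point condition. -/
theorem not_isTPt_map (f : k →+* K) {F : MvPolynomial (Fin 4) k} (hF : F.IsHomogeneous 3) {a : Fin 4 → k}
    (ℓ : MvPolynomial (Fin 4) K)
    (hℓ : ℓ = ∑ i : Fin 4, C (f (eval a (pderiv i F))) * X i)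
    (hT : ¬ ∃ L₁ L₂ L₃ : MvPolynomial (Fin 4) K, L₁.IsHomogeneous 1 ∧ L₂.IsHomogeneous 1 ∧ L₃.IsHomogeneous 1 ∧
      MvPolynomial.map f F - L₁ * L₂ * L₃ ∈ Ideal.span {ℓ})
    (hsm : (ofPoly F).tri a a ≠ 0) : ¬ IsTPt (ofPoly (MvPolynomial.map f F)) (f ∘ a) := by
  set G := MvPolynomial.map f F
  have hG : G.IsHomogeneous 3 := hF.map f
  rintro ⟨M₁, M₂, M₃, hM⟩
  set φ := (ofPoly G).tri (f ∘ a) (f ∘ a)
  have hℓev : ∀ x, φ x = 2 * eval x ℓ := fun x => by
    show (ofPoly G).tri (f ∘ a) (f ∘ a) x = _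
    rw [ofPoly_self_self hG, hℓ]
    simp [G, pderiv_map, eval_map, eval₂_comp]
  have hφ : φ ≠ 0 := fun h => by
    refine hsm (LinearMap.ext fun x => f.injective ?_)
    have := LinearMap.congr_fun h (f ∘ x)
    simp only [φ, G, tri_map, LinearMap.zero_apply] at this
    rw [this]; simp
  refine hT ⟨linPoly ((1 / 6 : K) • M₁), linPoly M₂, linPoly M₃, isHomogeneous_linPoly _,
    isHomogeneous_linPoly _, isHomogeneous_linPoly _, ?_⟩
  have hdvd := linPoly_dvd_of_forall' φ hφ (G - linPoly ((1 / 6 : K) • M₁) * linPoly M₂ * linPoly M₃)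
    fun x hx => by
      have h6 := hM x hx
      rw [ofPoly_self hG] at h6
      simp only [map_sub, map_mul, eval_linPoly, LinearMap.smul_apply, smul_eq_mul]
      linear_combination h6 / 6
  have hlin : linPoly φ = C 2 * ℓ := MvPolynomial.funext fun x => by simp [eval_linPoly, hℓev]
  rw [Ideal.mem_span_singleton]
  rw [hlin] at hdvd
  exact dvd_trans (dvd_mul_left _ _) hdvd

/-- A linear Pfaffian representation from a point which is not a T-point. -/
theorem exists_rep_of_point [IsAlgClosed K] (f : k →+* K) {F : MvPolynomial (Fin 4) k} (hF : F.IsHomogeneous 3)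
    (hirr : Irreducible (MvPolynomial.map f F))
    (hncone : ∀ v : Fin 4 → K, v ≠ 0 → ∃ x, (ofPoly (MvPolynomial.map f F)).tri x x v ≠ 0)
    {a : Fin 4 → k} (ha : a ≠ 0) (hFa : eval a F = 0)
    (hT : (ofPoly F).tri a a ≠ 0 → ¬ IsTPt (ofPoly (MvPolynomial.map f F)) (f ∘ a)) :
    ∃ M : Matrix (Fin 6) (Fin 6) (MvPolynomial (Fin 4) k), (∀ i j, (M i j).IsHomogeneous 1) ∧
      M.transpose = -M ∧ (∀ i, M i i = 0) ∧ ∃ c : k, c ≠ 0 ∧ M.det = C c * F ^ 2 := by
  obtain ⟨p, -, hp, hli⟩ := exists_five_points f hF hirr hncone ha hFa hT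
  exact exists_rep hF p hp hli

end Groth.CubicPfaff
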