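import Groth.Agent.CubicPfaff.Exists
import Groth.Agent.CubicPfaff.Setup
import Groth.Agent.CubicGeom.PlaneBezout
import Mathlib.Algebra.MvPolynomial.Equiv
import Mathlib.FieldTheory.IntermediateField.Adjoin.Basic

/-!
A line defined over the ground field all of whose intersection points with the cubic surface are smooth
points which are not T-points.
-/

set_option autoImplicit false

namespace Groth.CubicPfaff

open MvPolynomial Groth.CubicGeom

section Geometry

variable {K : Type*} [Field K] [CharZero K] [IsAlgClosed K] {F : MvPolynomial (Fin 4) K}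

/-- The T-points lie on a hypersurface not containing a given good point. -/
theorem exists_good_poly (hF : F.IsHomogeneous 3) {a : Fin 4 → K} (ha : a ≠ 0) (hFa : eval a F = 0)
    {r : Fin 4 → K} (hr : (ofPoly F).tri a a r ≠ 0) (hnot : ¬ IsTPt (ofPoly F) a) :
    ∃ G : MvPolynomial (Fin 4) K, eval a G ≠ 0 ∧
      ∀ b, eval b G ≠ 0 → (ofPoly F).tri b b ≠ 0 ∧ ¬ IsTPt (ofPoly F) b := by
  classical
  set T := ofPoly F with hT
  set H := LinearMap.ker (T.tri a a) with hH
  have hH3 : Module.finrank K ↥H = 3 := by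
    have := Form.finrank_ker_of_ne_zero (φ := T.tri a a) (fun e => hr (by simp [e]))
    simp at this
    omega
  have haaa : T.tri a a a = 0 := (ofPoly_self_eq_zero hF a).2 hFa
  obtain ⟨e, hli, he0, y, y', hne⟩ := Form.exists_hess_mul_ne (T := T.comap H.subtype) hH3
    (a := ⟨a, haaa⟩) (fun h => ha (congrArg Subtype.val h)) (fun x => x.2) (by
      rintro ⟨M₁, M₂, M₃, h⟩
      obtain ⟨N₁, hN₁⟩ := LinearMap.exists_extend M₁
      obtain ⟨N₂, hN₂⟩ := LinearMap.exists_extend M₂
      obtain ⟨N₃, hN₃⟩ := LinearMap.exists_extend M₃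
      refine hnot ⟨N₁, N₂, N₃, fun x hx => ?_⟩
      have := h ⟨x, hx⟩
      rw [← hN₁, ← hN₂, ← hN₃] at this
      exact this)
  set E : Fin 3 → (Fin 4 → K) := fun i => (e i).1 with hE
  let Φ : (Fin 4 → K) → Fin 3 → (Fin 4 → K) := fun b i => T.tri b b r • E i - T.tri b b (E i) • r
  let G : (Fin 4 → K) → K := fun b =>
    T.hess (Φ b) (Form.pt (Φ b) y) * T.tri (Form.pt (Φ b) y') (Form.pt (Φ b) y') (Form.pt (Φ b) y') -
      T.hess (Φ b) (Form.pt (Φ b) y') * T.tri (Form.pt (Φ b) y) (Form.pt (Φ b) y) (Form.pt (Φ b) y)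
  have hΦ : ∀ i, PolyVec (fun b => Φ b i) := fun i =>
    PolyVec.sub (PolyVec.smul (polyFuns_tri F (fun k => coord_mem_polyFuns k) (fun k => coord_mem_polyFuns k)
      (PolyVec.const r)) (PolyVec.const _))
      (PolyVec.smul (polyFuns_tri F (fun k => coord_mem_polyFuns k) (fun k => coord_mem_polyFuns k)
      (PolyVec.const (E i))) (PolyVec.const r))
  have hpt : ∀ z : Fin 3 → K, PolyVec (fun b => Form.pt (Φ b) z) := fun z k => by
    have : (fun b => Form.pt (Φ b) z k) =
        (fun _ => z 0) * (fun b => Φ b 0 k) + (fun _ => z 1) * (fun b => Φ b 1 k) +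
          (fun _ => z 2) * (fun b => Φ b 2 k) := by
      funext b; simp [Form.pt]
    rw [this]
    exact add_mem (add_mem (mul_mem (const_mem_polyFuns _) (hΦ 0 k)) (mul_mem (const_mem_polyFuns _) (hΦ 1 k)))
      (mul_mem (const_mem_polyFuns _) (hΦ 2 k))
  have hhess : ∀ z : Fin 3 → K, (fun b => T.hess (Φ b) (Form.pt (Φ b) z)) ∈ polyFuns K 4 := by
    intro z
    let M : Fin 3 → Fin 3 → (Fin 4 → K) → K := fun i j b => T.tri (Form.pt (Φ b) z) (Φ b i) (Φ b j)
    have hM : ∀ i j, M i j ∈ polyFuns K 4 := fun i j => polyFuns_tri F (hpt z) (hΦ i) (hΦ j)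
    have : (fun b => T.hess (Φ b) (Form.pt (Φ b) z)) =
        M 0 0 * M 1 1 * M 2 2 - M 0 0 * M 1 2 * M 2 1 - M 0 1 * M 1 0 * M 2 2 + M 0 1 * M 1 2 * M 2 0
          + M 0 2 * M 1 0 * M 2 1 - M 0 2 * M 1 1 * M 2 0 := by
      funext b; simp [M, Form.hess, Matrix.det_fin_three]
    rw [this]
    refine sub_mem (add_mem (add_mem (sub_mem (sub_mem ?_ ?_) ?_) ?_) ?_) ?_ <;>
      exact mul_mem (mul_mem (hM _ _) (hM _ _)) (hM _ _)
  obtain ⟨g, hg⟩ := mem_polyFuns_iff.1 (show G ∈ polyFuns K 4 from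
    sub_mem (mul_mem (hhess y) (polyFuns_tri F (hpt y') (hpt y') (hpt y')))
      (mul_mem (hhess y') (polyFuns_tri F (hpt y) (hpt y) (hpt y))))
  refine ⟨g, ?_, fun b hb => ?_⟩
  · rw [hg]
    set c := T.tri a a r
    have hΦa : ∀ i, Φ a i = c • E i := fun i => by
      have : T.tri a a (E i) = 0 := (e i).2
      simp [Φ, c, this]
    have hp : ∀ z : Fin 3 → K, Form.pt (Φ a) z = c • Form.pt E z := fun z => by simp [Form.pt, hΦa]; module
    have hh : ∀ z : Fin 3 → K, T.hess (Φ a) (Form.pt (Φ a) z) = c ^ 9 * T.hess E (Form.pt E z) := fun z => by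
      simp only [Form.hess, Matrix.det_fin_three, Matrix.of_apply, hΦa, hp, map_smul, LinearMap.smul_apply,
        smul_eq_mul]
      ring
    simp only [G]
    rw [hh, hh, hp, hp]
    simp only [map_smul, LinearMap.smul_apply, smul_eq_mul]
    intro h0
    apply hne
    have hc : c ^ 12 ≠ 0 := pow_ne_zero _ hr
    have hval : ∀ z : Fin 3 → K, (H.subtype (Form.pt e z)) = Form.pt E z := fun z => by simp [Form.pt, hE]
    have hhe : ∀ z : Fin 3 → K, (T.comap H.subtype).hess e (Form.pt e z) = T.hess E (Form.pt E z) := fun z => by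
      simp only [Form.hess]
      refine congrArg Matrix.det (Matrix.ext fun i j => ?_)
      show T.tri (H.subtype (Form.pt e z)) (H.subtype (e i)) (H.subtype (e j)) = T.tri (Form.pt E z) (E i) (E j)
      rw [hval]
      rfl
    have htr : ∀ z : Fin 3 → K, (T.comap H.subtype).tri (Form.pt e z) (Form.pt e z) (Form.pt e z)
        = T.tri (Form.pt E z) (Form.pt E z) (Form.pt E z) := fun z => by rw [← hval z]; rfl
    rw [hhe, hhe, htr, htr]
    refine mul_left_cancel₀ hc ?_
    linear_combination h0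
  · rw [hg] at hb
    refine ⟨fun h0 => hb ?_, fun htp => hb ?_⟩
    · have hΦb : ∀ i, Φ b i = 0 := fun i => by simp [Φ, h0]
      have hz : ∀ z : Fin 3 → K, T.hess (Φ b) (Form.pt (Φ b) z) = 0 := fun z => by
        simp only [Form.hess, Matrix.det_fin_three, Matrix.of_apply, hΦb, map_zero, LinearMap.zero_apply]
        ring
      simp [G, hz]
    · by_cases hbr : T.tri b b r = 0
      · have hΦb : ∀ i, Φ b i = (-T.tri b b (E i)) • r := fun i => by simp [Φ, hbr]
        have hz : ∀ z : Fin 3 → K, T.hess (Φ b) (Form.pt (Φ b) z) = 0 := fun z => by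
          simp only [Form.hess, Matrix.det_fin_three, Matrix.of_apply, hΦb, map_smul, LinearMap.smul_apply,
            smul_eq_mul]
          ring
        simp [G, hz]
      · obtain ⟨M₁, M₂, M₃, hM⟩ := htp
        refine sub_eq_zero.2 (Form.hess_mul_eq_of_product (Φ b) M₁ M₂ M₃ (fun z => hM _ ?_) y y')
        simp [Form.pt, Φ, T]
        ring

end Geometry

/-- Through a rational point off the surface there is a rational line meeting it only at good points. -/
theorem exists_line {k K : Type*} [Field k] [CharZero k] [Field K] [CharZero K] [IsAlgClosed K] (f : k →+* K)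
    {F : MvPolynomial (Fin 4) k} (hF : F.IsHomogeneous 3)
    (hirr : Irreducible (MvPolynomial.map f F))
    (hncone : ∀ v : Fin 4 → K, v ≠ 0 → ∃ x, (ofPoly (MvPolynomial.map f F)).tri x x v ≠ 0) :
    ∃ x y : Fin 4 → k, eval y F ≠ 0 ∧ ∀ t : K, eval (f ∘ x + t • f ∘ y) (MvPolynomial.map f F) = 0 →
      (ofPoly (MvPolynomial.map f F)).tri (f ∘ x + t • f ∘ y) (f ∘ x + t • f ∘ y) ≠ 0 ∧
        ¬ IsTPt (ofPoly (MvPolynomial.map f F)) (f ∘ x + t • f ∘ y) := by
  classical
  set FK := MvPolynomial.map f F with hFK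
  have hFKh : FK.IsHomogeneous 3 := hF.map f
  have hF0 : F ≠ 0 := fun h => hirr.ne_zero (by simp [h, hFK])
  obtain ⟨y, hy⟩ : ∃ y, eval y F ≠ 0 := by
    by_contra hc
    push Not at hc
    exact hF0 (MvPolynomial.funext fun x => by rw [hc x, map_zero])
  obtain ⟨a, ha, hFa, haa, hnot⟩ := exists_good hFKh hirr hncone
  obtain ⟨r, hr⟩ : ∃ r, (ofPoly FK).tri a a r ≠ 0 := by
    by_contra hc; push Not at hc; exact haa (LinearMap.ext hc)
  obtain ⟨G, hGa, hG⟩ := exists_good_poly hFKh ha hFa hr hnot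
  have hnd : ¬ FK ∣ G := fun ⟨c, hc⟩ => hGa (by rw [hc, map_mul, hFa, zero_mul])
  set yK := f ∘ y with hyK
  have hyK0 : yK ≠ 0 := fun h => hy (by
    have e : y = 0 := funext fun i => f.injective (by simpa [hyK] using congrFun h i)
    rw [e, ← ofPoly_self_eq_zero hF]; simp)
  -- coordinates in which the first axis is the direction of the lines
  obtain ⟨A, hAdet, hA0⟩ : ∃ A : Matrix (Fin 4) (Fin 4) K, IsUnit A.det ∧ A.mulVec (Pi.single 0 1) = yK := by
    obtain ⟨i, hi⟩ := Function.ne_iff.1 hyK0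
    let A : Matrix (Fin 4) (Fin 4) K :=
      Matrix.of fun p q => if q = 0 then yK p else if Equiv.swap 0 i q = p then 1 else 0
    refine ⟨A, ?_, ?_⟩
    · rw [← Matrix.isUnit_iff_isUnit_det, ← Matrix.mulVec_injective_iff_isUnit]
      refine (injective_iff_map_eq_zero A.mulVecLin).2 fun v hv => ?_
      have hrow : ∀ p, v 0 * yK p + ∑ q : Fin 4, (if q ≠ 0 ∧ Equiv.swap 0 i q = p then v q else 0) = 0 := fun p => by
        have := congrFun hv p
        rw [Matrix.mulVecLin_apply] at this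
        simp only [Matrix.mulVec, dotProduct, A, Matrix.of_apply, Pi.zero_apply] at this
        refine Eq.trans ?_ this
        rw [Fin.sum_univ_four, Fin.sum_univ_four]
        simp [mul_comm, add_assoc]
      have hv0 : v 0 = 0 := by
        have h := hrow i
        rw [Finset.sum_eq_zero fun q _ => if_neg ?_, add_zero] at h
        · exact (mul_eq_zero.1 h).resolve_right hi
        · rintro ⟨hq, hqi⟩
          exact hq ((Equiv.swap 0 i).injective (hqi.trans (Equiv.swap_apply_left 0 i).symm))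
      funext q
      by_cases hq : q = 0
      · rw [hq]; exact hv0
      · have h := hrow (Equiv.swap 0 i q)
        rw [hv0, zero_mul, zero_add, Finset.sum_eq_single q (fun q' _ hq' => if_neg fun h' =>
          hq' ((Equiv.swap 0 i).injective h'.2)) (by simp), if_pos ⟨hq, rfl⟩] at h
        exact h
    · funext p
      simp [A, Matrix.mulVec_single]
  have hinv : ∀ B C : Matrix (Fin 4) (Fin 4) K, C * B = 1 →
      ∀ p : MvPolynomial (Fin 4) K, subst B (subst C p) = p := by
    intro B C hBC p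
    refine MvPolynomial.funext fun x => ?_
    rw [eval_subst, eval_subst, Matrix.mulVec_mulVec, hBC, Matrix.one_mulVec]
  let S : MvPolynomial (Fin 4) K ≃ₐ[K] MvPolynomial (Fin 4) K :=
    AlgEquiv.ofAlgHom (subst A) (subst A⁻¹)
      (AlgHom.ext fun p => hinv A A⁻¹ (Matrix.nonsing_inv_mul _ hAdet) p)
      (AlgHom.ext fun p => hinv A⁻¹ A (Matrix.mul_nonsing_inv _ hAdet) p)
  let e := S.trans (MvPolynomial.finSuccEquiv K 3)
  have hrel : IsRelPrime (e FK) (e G) := by
    have h : IsRelPrime FK G := (hirr.isRelPrime_iff_not_dvd).2 hnd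
    intro d hd1 hd2
    have h1 : e.symm d ∣ FK := by simpa using map_dvd e.symm hd1
    have h2 : e.symm d ∣ G := by simpa using map_dvd e.symm hd2
    simpa using (h h1 h2).map e
  obtain ⟨R, hR, P, Q, hPQ⟩ := exists_elim (e FK) (e G)
    (fun h => hirr.ne_zero (e.injective (h.trans (map_zero e).symm))) hrel
  have hev : ∀ p (τ : K) (s : Fin 3 → K), eval (A.mulVec (Fin.cons τ s)) p = ((e p).map (eval s)).eval τ :=
    fun p τ s => (eval_subst A p _).symm.trans (eval_eq_eval_mv_eval' s τ (subst A p))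
  -- the elimination polynomial as a function of the base point
  let tl : (Fin 4 → K) → (Fin 3 → K) := fun x j => A⁻¹.mulVec x j.succ
  have htl : (fun x => eval (tl x) R) ∈ polyFuns K 4 := by
    rw [mem_polyFuns_iff]
    refine ⟨eval₂ MvPolynomial.C (fun j : Fin 3 => ∑ q, C (A⁻¹ j.succ q) * X q) R, fun x => ?_⟩
    rw [← eval_assoc]
    congr 2
    funext j
    simp [tl, Matrix.mulVec, dotProduct]
  obtain ⟨s₀, hs₀⟩ : ∃ s, eval s R ≠ 0 := by
    by_contra hc
    push Not at hc
    exact hR (MvPolynomial.funext fun x => by rw [hc x, map_zero])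
  obtain ⟨x, hx⟩ := exists_rat_ne_zero f htl ⟨A.mulVec (Fin.cons 0 s₀), by
    have : tl (A.mulVec (Fin.cons 0 s₀)) = s₀ := by
      funext j
      simp [tl, Matrix.mulVec_mulVec, Matrix.nonsing_inv_mul _ hAdet]
    rw [this]; exact hs₀⟩
  refine ⟨x, y, hy, fun t ht => hG _ fun hG0 => hx ?_⟩
  set w := A⁻¹.mulVec (f ∘ x) with hw
  have hpt : f ∘ x + t • yK = A.mulVec (Fin.cons (w 0 + t) (fun j => w j.succ)) := by
    have e1 : (Fin.cons (w 0 + t) (fun j => w j.succ) : Fin 4 → K) = w + t • Pi.single 0 1 := by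
      funext i; refine Fin.cases ?_ (fun j => ?_) i <;> simp
    rw [e1, Matrix.mulVec_add, Matrix.mulVec_smul, hA0, hw, Matrix.mulVec_mulVec,
      Matrix.mul_nonsing_inv _ hAdet, Matrix.one_mulVec]
  rw [hpt, hev] at ht hG0
  have h := congrArg (fun q => (Polynomial.map (eval fun j => w j.succ) q).eval (w 0 + t)) hPQ
  simp only [Polynomial.map_add, Polynomial.map_mul, Polynomial.eval_add, Polynomial.eval_mul,
    Polynomial.map_C, Polynomial.eval_C, ht, hG0, mul_zero, add_zero] at h
  exact h.symm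

/-- The restriction of a cubic to a line, as a polynomial in the parameter. -/
theorem exists_linePoly {k : Type*} [Field k] [CharZero k] {F : MvPolynomial (Fin 4) k} (hF : F.IsHomogeneous 3)
    {x y : Fin 4 → k} (hy : eval y F ≠ 0) :
    ∃ P : Polynomial k, P.natDegree = 3 ∧ ∀ {L : Type*} [Field L] [CharZero L] (f : k →+* L) (t : L),
      P.eval₂ f t = 0 → eval (f ∘ x + t • f ∘ y) (MvPolynomial.map f F) = 0 := by
  set T := ofPoly F
  refine ⟨Polynomial.C (T.tri y y y) * Polynomial.X ^ 3 + Polynomial.C (3 * T.tri x y y) * Polynomial.X ^ 2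
    + Polynomial.C (3 * T.tri x x y) * Polynomial.X + Polynomial.C (T.tri x x x), ?_, fun {L} _ _ f t h => ?_⟩
  · exact Polynomial.natDegree_cubic (fun h => hy ((ofPoly_self_eq_zero hF y).1 h))
  · rw [← ofPoly_self_eq_zero (hF.map f), Form.expand, tri_map, tri_map, tri_map, tri_map]
    simp only [Polynomial.eval₂_add, Polynomial.eval₂_mul, Polynomial.eval₂_C, Polynomial.eval₂_X_pow,
      Polynomial.eval₂_X, Polynomial.eval₂_ofNat, map_mul, map_ofNat] at h
    linear_combination h

/-- A representation over the field generated by a root on a good line. -/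
theorem exists_rep_over {k E K : Type*} [Field k] [Field E] [CharZero E] [Field K] [CharZero K] [IsAlgClosed K]
    (g : k →+* E) (φ : E →+* K) {F : MvPolynomial (Fin 4) k} (hF : F.IsHomogeneous 3)
    (hirr : Irreducible (MvPolynomial.map (φ.comp g) F))
    (hncone : ∀ v : Fin 4 → K, v ≠ 0 → ∃ x, (ofPoly (MvPolynomial.map (φ.comp g) F)).tri x x v ≠ 0)
    {x y : Fin 4 → k} (t : E) (ht : eval (g ∘ x + t • g ∘ y) (MvPolynomial.map g F) = 0)
    (hgood : eval (φ.comp g ∘ x + φ t • φ.comp g ∘ y) (MvPolynomial.map (φ.comp g) F) = 0 →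
      (ofPoly (MvPolynomial.map (φ.comp g) F)).tri (φ.comp g ∘ x + φ t • φ.comp g ∘ y)
          (φ.comp g ∘ x + φ t • φ.comp g ∘ y) ≠ 0 ∧
        ¬ IsTPt (ofPoly (MvPolynomial.map (φ.comp g) F)) (φ.comp g ∘ x + φ t • φ.comp g ∘ y)) :
    ∃ M : Matrix (Fin 6) (Fin 6) (MvPolynomial (Fin 4) E), (∀ i j, (M i j).IsHomogeneous 1) ∧
      M.transpose = -M ∧ (∀ i, M i i = 0) ∧
        ∃ c : E, c ≠ 0 ∧ M.det = C c * MvPolynomial.map g F ^ 2 := by
  set a : Fin 4 → E := g ∘ x + t • g ∘ y with ha
  have hmap : MvPolynomial.map φ (MvPolynomial.map g F) = MvPolynomial.map (φ.comp g) F := MvPolynomial.map_map _ _ _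
  have hφa : φ ∘ a = φ.comp g ∘ x + φ t • φ.comp g ∘ y := by funext i; simp [ha]
  have hg := hgood (by
    rw [← hφa, ← hmap, eval_map, ← eval₂_comp, ht, map_zero])
  have ha0 : a ≠ 0 := fun h => hg.1 (by
    rw [← hφa, h, show φ ∘ (0 : Fin 4 → E) = 0 by funext i; simp]; simp)
  exact exists_rep_of_point φ (hF.map g) (hmap ▸ hirr) (hmap ▸ hncone) ha0 ht
    (fun _ => by rw [hmap, hφa]; exact hg.2)

end Groth.CubicPfaff
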