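import Groth.Agent.CubicGeom.Lines
import Groth.Agent.CubicGeom.TPoints

/-!
Rational points on a cubic surface in general position, spread out from one point which is not a
T-point (Segre's construction: tangent lines along the tangent plane section).
-/

set_option autoImplicit false

namespace Groth.CubicPfaff

open MvPolynomial Groth.CubicGeom

/-- The base change of a cubic in the language of trilinear forms. -/
theorem tri_map {k K : Type*} [Field k] [Field K] (f : k →+* K) {n : ℕ} (F : MvPolynomial (Fin n) k)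
    (x y z : Fin n → k) :
    (ofPoly (MvPolynomial.map f F)).tri (f ∘ x) (f ∘ y) (f ∘ z) = f ((ofPoly F).tri x y z) := by
  have hc : ∀ i j l, coeff3 (MvPolynomial.map f F) i j l = f (coeff3 F i j l) := fun i j l => by
    simp only [coeff3, pderiv_map, eval_map]
    rw [show (0 : Fin n → K) = f ∘ (0 : Fin n → k) by funext i; simp, ← eval₂_comp]
  simp [ofPoly_apply, hc, map_sum]

/-- The product condition defining T-points. -/
def IsTPt {K V : Type*} [Field K] [AddCommGroup V] [Module K V] (T : Form K V) (b : V) : Prop :=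
  ∃ M₁ M₂ M₃ : V →ₗ[K] K, ∀ x, T.tri b b x = 0 → T.tri x x x = M₁ x * M₂ x * M₃ x

section Maps

variable {K V : Type*} [Field K] [AddCommGroup V] [Module K V] (T : Form K V)

/-- The second intersection with the surface of a line through a singular point. -/
def singMap (a x : V) : V := (3 * T.tri x x a) • x - T.tri x x x • a

/-- Projection to a tangent plane. -/
def proj (p r w : V) : V := T.tri p p r • w - T.tri p p w • r

/-- The parametrisation of the tangent section at a smooth point. -/
def curveMap (a r w : V) : V := singMap T a (proj T a r w)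

/-- The third intersection with a tangent line at a point of the tangent section. -/
def surfMap (a r w u z : V) : V :=
  let b := curveMap T a r w
  let v := proj T b u z
  T.tri v v v • b - (3 * T.tri b v v) • v

theorem tri_proj (p r w : V) : T.tri p p (proj T p r w) = 0 := by
  simp only [proj, map_sub, map_smul, smul_eq_mul]
  ring

theorem singMap_mem {a x : V} (h0 : T.tri a a a = 0) (h1 : T.tri a a x = 0) :
    T.tri (singMap T a x) (singMap T a x) (singMap T a x) = 0 := by
  have e1 : T.tri x a a = 0 := by rw [T.symm12, T.symm23]; exact h1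
  rw [show singMap T a x = (3 * T.tri x x a) • x + (-T.tri x x x) • a by simp [singMap, sub_eq_add_neg],
    T.expand₂, h0, e1]
  ring

theorem surfMap_mem {a r w u z : V} (h0 : T.tri a a a = 0) :
    T.tri (surfMap T a r w u z) (surfMap T a r w u z) (surfMap T a r w u z) = 0 := by
  have hb : T.tri (curveMap T a r w) (curveMap T a r w) (curveMap T a r w) = 0 :=
    singMap_mem T h0 (tri_proj T a r w)
  have hv := tri_proj T (curveMap T a r w) u z
  dsimp only [surfMap]
  rw [sub_eq_add_neg, ← neg_smul, T.expand₂, hb, hv]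
  ring

end Maps

section Poly

variable {K : Type*} [Field K] {n m : ℕ}

/-- A vector of polynomial functions. -/
def PolyVec (g : (Fin n → K) → (Fin m → K)) : Prop := ∀ i, (fun v => g v i) ∈ polyFuns K n

theorem PolyVec.const (c : Fin m → K) : PolyVec (fun _ : Fin n → K => c) :=
  fun _ => const_mem_polyFuns _

theorem PolyVec.smul {s : (Fin n → K) → K} {g : (Fin n → K) → (Fin m → K)} (hs : s ∈ polyFuns K n)
    (hg : PolyVec g) : PolyVec (fun v => s v • g v) := fun i => by
  have : (fun v => (s v • g v) i) = s * fun v => g v i := by funext v; simp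
  rw [this]; exact mul_mem hs (hg i)

theorem PolyVec.sub {g g' : (Fin n → K) → (Fin m → K)} (hg : PolyVec g) (hg' : PolyVec g') :
    PolyVec (fun v => g v - g' v) := fun i => by
  have : (fun v => (g v - g' v) i) = (fun v => g v i) - fun v => g' v i := by funext v; simp
  rw [this]; exact sub_mem (hg i) (hg' i)

theorem PolyVec.linear {g : (Fin n → K) → (Fin m → K)} (hg : PolyVec g) (φ : (Fin m → K) →ₗ[K] K) :
    (fun v => φ (g v)) ∈ polyFuns K n := by
  have : (fun v => φ (g v)) = ∑ i, (fun _ : Fin n → K => φ (Pi.single i 1)) * fun v => g v i := by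
    funext v
    simp only [Finset.sum_apply, Pi.mul_apply]
    conv_lhs => rw [pi_eq_sum_univ' (g v), map_sum]
    exact Finset.sum_congr rfl fun i _ => by rw [map_smul, smul_eq_mul, mul_comm]
  rw [this]
  exact sum_mem fun i _ => mul_mem (const_mem_polyFuns _) (hg i)

theorem polyFuns_tri (f : MvPolynomial (Fin m) K) {u w z : (Fin n → K) → (Fin m → K)}
    (hu : PolyVec u) (hw : PolyVec w) (hz : PolyVec z) :
    (fun v => (ofPoly f).tri (u v) (w v) (z v)) ∈ polyFuns K n := by
  have : (fun v => (ofPoly f).tri (u v) (w v) (z v)) = ∑ i, ∑ j, ∑ l,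
      (fun _ : Fin n → K => coeff3 f i j l) * ((fun v => u v i) * ((fun v => w v j) * fun v => z v l)) := by
    funext v; simp [ofPoly_apply, Finset.sum_apply]
  rw [this]
  exact sum_mem fun i _ => sum_mem fun j _ => sum_mem fun l _ =>
    mul_mem (const_mem_polyFuns _) (mul_mem (hu i) (mul_mem (hw j) (hz l)))

theorem PolyVec.singMap (f : MvPolynomial (Fin m) K) {a x : (Fin n → K) → (Fin m → K)}
    (ha : PolyVec a) (hx : PolyVec x) : PolyVec (fun v => CubicPfaff.singMap (ofPoly f) (a v) (x v)) := by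
  refine PolyVec.sub (PolyVec.smul ?_ hx) (PolyVec.smul (polyFuns_tri f hx hx hx) ha)
  exact mul_mem (const_mem_polyFuns (3 : K)) (polyFuns_tri f hx hx ha)

theorem PolyVec.proj (f : MvPolynomial (Fin m) K) {p r w : (Fin n → K) → (Fin m → K)}
    (hp : PolyVec p) (hr : PolyVec r) (hw : PolyVec w) :
    PolyVec (fun v => CubicPfaff.proj (ofPoly f) (p v) (r v) (w v)) :=
  PolyVec.sub (PolyVec.smul (polyFuns_tri f hp hp hr) hw) (PolyVec.smul (polyFuns_tri f hp hp hw) hr)

/-- The three blocks of coordinates. -/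
def blk (j : Fin 3) (v : Fin 12 → K) : Fin 4 → K := fun i => v (finProdFinEquiv (j, i))

/-- Three vectors as one. -/
def pack (w u z : Fin 4 → K) : Fin 12 → K :=
  fun i => (![w, u, z] : Fin 3 → Fin 4 → K) ((finProdFinEquiv (m := 3) (n := 4)).symm i).1
    ((finProdFinEquiv (m := 3) (n := 4)).symm i).2

theorem blk_pack (w u z : Fin 4 → K) (j : Fin 3) : blk j (pack w u z) = ![w, u, z] j := by
  funext i
  simp only [blk, pack, Equiv.symm_apply_apply]

theorem polyVec_blk (j : Fin 3) : PolyVec (blk (K := K) j) := fun _ => coord_mem_polyFuns _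

/-- The map with all variables free. -/
noncomputable def bigMap (F : MvPolynomial (Fin 4) K) (a r : Fin 4 → K) (v : Fin 12 → K) : Fin 4 → K :=
  surfMap (ofPoly F) a r (blk 0 v) (blk 1 v) (blk 2 v)

theorem polyVec_bigMap (F : MvPolynomial (Fin 4) K) (a r : Fin 4 → K) : PolyVec (bigMap F a r) := by
  have hb : PolyVec (fun v : Fin 12 → K => curveMap (ofPoly F) a r (blk 0 v)) :=
    PolyVec.singMap F (PolyVec.const a) (PolyVec.proj F (PolyVec.const a) (PolyVec.const r) (polyVec_blk 0))
  have hv := PolyVec.proj F hb (polyVec_blk 1) (polyVec_blk 2)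
  exact PolyVec.sub (PolyVec.smul (polyFuns_tri F hv hv hv) hb)
    (PolyVec.smul (mul_mem (const_mem_polyFuns (3 : K)) (polyFuns_tri F hb hv hv)) hv)

/-- A polynomial function which is nonzero somewhere over an extension is nonzero at a rational point. -/
theorem exists_rat_ne_zero {k : Type*} [Field k] [Infinite k] (f : k →+* K) {g : (Fin n → K) → K}
    (hg : g ∈ polyFuns K n) (h : ∃ v, g v ≠ 0) : ∃ x : Fin n → k, g (f ∘ x) ≠ 0 := by
  by_contra hc
  push Not at hc
  obtain ⟨p, hp⟩ := mem_polyFuns_iff.1 hg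
  obtain ⟨v, hv⟩ := h
  have : p = 0 := by
    refine MvPolynomial.funext_set (fun _ => Set.range f) (fun _ => Set.infinite_range_of_injective f.injective) ?_
    intro x hx
    choose y hy using fun i => hx i (Set.mem_univ i)
    rw [hp, show x = f ∘ y from funext fun i => (hy i).symm, map_zero]
    exact hc y
  refine hv ?_
  rw [← hp, this, map_zero]

/-- Five points in general position on the image of a polynomial map which lies in no plane. -/
theorem exists_five [Infinite K] {g : (Fin n → K) → (Fin 4 → K)} (hg : PolyVec g)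
    (hspan : ∀ φ : (Fin 4 → K) →ₗ[K] K, φ ≠ 0 → ∃ v, φ (g v) ≠ 0) {a : Fin 4 → K} (ha : a ≠ 0) :
    ∃ p : Fin 5 → (Fin 4 → K), p 0 = a ∧ (∀ j, j ≠ 0 → p j ∈ Set.range g) ∧
      ∀ j : Fin 5, LinearIndependent K (fun i : Fin 4 => p (j.succAbove i)) := by
  classical
  have avoid : ∀ (S : Finset (Set (Fin 4 → K))), (∀ s ∈ S, Submodule.span K s ≠ ⊤) →
      ∃ v, ∀ s ∈ S, g v ∉ Submodule.span K s := by
    intro S hS
    have hψ : ∀ s ∈ S, ∃ φ : (Fin 4 → K) →ₗ[K] K, φ ≠ 0 ∧ Submodule.span K s ≤ LinearMap.ker φ :=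
      fun s hs => Submodule.exists_le_ker_of_lt_top _ (lt_top_iff_ne_top.2 (hS s hs))
    choose φ hφ0 hφ using hψ
    choose Q hQ using fun (s : {x // x ∈ S}) => mem_polyFuns_iff.1 (hg.linear (φ s.1 s.2))
    have hQ0 : (∏ s, Q s) ≠ 0 := Finset.prod_ne_zero_iff.2 fun s _ h => by
      obtain ⟨v, hv⟩ := hspan _ (hφ0 s.1 s.2)
      refine hv ?_
      have := hQ s v
      rw [h, map_zero] at this
      exact this.symm
    obtain ⟨v, hv⟩ : ∃ v, eval v (∏ s, Q s) ≠ 0 := by
      by_contra hc
      push Not at hc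
      exact hQ0 (MvPolynomial.funext fun x => by rw [hc x, map_zero])
    rw [map_prod, Finset.prod_ne_zero_iff] at hv
    exact ⟨v, fun s hs hmem => hv ⟨s, hs⟩ (Finset.mem_univ _) (by rw [hQ]; exact hφ s hs hmem)⟩
  have ne_top : ∀ {l : ℕ} (f : Fin l → Fin 4 → K), l < 4 → Submodule.span K (Set.range f) ≠ ⊤ := by
    intro l f hl h
    have := finrank_range_le_card (R := K) f
    rw [Set.finrank, h, finrank_top, Module.finrank_fin_fun, Fintype.card_fin] at this
    omega
  obtain ⟨v₁, h₁⟩ := avoid {Set.range ![a]} (by simp only [Finset.mem_singleton, forall_eq]; exact ne_top _ (by norm_num))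
  obtain ⟨v₂, h₂⟩ := avoid {Set.range ![g v₁, a]}
    (by simp only [Finset.mem_singleton, forall_eq]; exact ne_top _ (by norm_num))
  obtain ⟨v₃, h₃⟩ := avoid {Set.range ![g v₂, g v₁, a]}
    (by simp only [Finset.mem_singleton, forall_eq]; exact ne_top _ (by norm_num))
  simp only [Finset.mem_singleton, forall_eq] at h₁ h₂ h₃
  have l1 : LinearIndependent K ![a] :=
    linearIndependent_finCons.2 ⟨linearIndependent_empty_type, by simp [ha]⟩
  have l2 : LinearIndependent K ![g v₁, a] := linearIndependent_finCons.2 ⟨l1, h₁⟩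
  have l3 : LinearIndependent K ![g v₂, g v₁, a] := linearIndependent_finCons.2 ⟨l2, h₂⟩
  have l4 : LinearIndependent K ![g v₃, g v₂, g v₁, a] := linearIndependent_finCons.2 ⟨l3, h₃⟩
  let q : Fin 4 → Fin 4 → K := ![g v₃, g v₂, g v₁, a]
  obtain ⟨v₄, h₄⟩ := avoid (Finset.univ.image fun i : Fin 4 => Set.range (q ∘ i.succAbove))
    (fun s hs => by
      obtain ⟨i, -, rfl⟩ := Finset.mem_image.1 hs
      exact ne_top _ (by norm_num))
  refine ⟨![a, g v₁, g v₂, g v₃, g v₄], rfl, fun j hj => ?_, fun j => ?_⟩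
  · fin_cases j <;> simp at hj ⊢
  · have h4 : ∀ i : Fin 4, LinearIndependent K (Fin.cons (g v₄) (q ∘ i.succAbove) : Fin 4 → Fin 4 → K) :=
      fun i => linearIndependent_finCons.2 ⟨l4.comp _ Fin.succAbove_right_injective,
        h₄ _ (Finset.mem_image_of_mem _ (Finset.mem_univ i))⟩
    fin_cases j
    · have h := (h4 3).comp ![3, 2, 1, 0] (by decide)
      convert h using 1
      funext i; fin_cases i <;> rfl
    · have h := (h4 2).comp ![3, 2, 1, 0] (by decide)
      convert h using 1
      funext i; fin_cases i <;> rfl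
    · have h := (h4 1).comp ![3, 2, 1, 0] (by decide)
      convert h using 1
      funext i; fin_cases i <;> rfl
    · have h := (h4 0).comp ![3, 2, 1, 0] (by decide)
      convert h using 1
      funext i; fin_cases i <;> rfl
    · have h := l4.comp ![3, 2, 1, 0] (by decide)
      convert h using 1
      funext i; fin_cases i <;> rfl

end Poly

section Geometry

variable {K : Type*} [Field K] [CharZero K] [IsAlgClosed K] {F : MvPolynomial (Fin 4) K}
  (hF : F.IsHomogeneous 3)

include hF

/-- A point where the polar quadric degenerates on the tangent plane to a multiple of a linear form is a T-point. -/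
theorem isTPt_of_polar {b : Fin 4 → K} (hb : b ≠ 0) (hFb : eval b F = 0)
    (hbb : (ofPoly F).tri b b ≠ 0)
    (h : (∃ μ : (Fin 4 → K) →ₗ[K] K, ∀ x, (ofPoly F).tri b b x = 0 →
        (ofPoly F).tri x x x = (ofPoly F).tri b x x * μ x) ∨
      (∀ x, (ofPoly F).tri b b x = 0 → (ofPoly F).tri b x x = 0)) :
    IsTPt (ofPoly F) b := by
  set T := ofPoly F with hT
  have h0 : T.tri b b b = 0 := (ofPoly_self_eq_zero hF b).2 hFb
  obtain ⟨B, hB0, hB1, hB2, hB3⟩ := exists_adapted_basis hb hbb h0
  set u := B 1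
  set v := B 2
  have hcoord : ∀ x, T.tri b b x = 0 → x = B.coord 0 x • b + B.coord 1 x • u + B.coord 2 x • v := fun x hx => by
    have e : x = B.coord 0 x • b + B.coord 1 x • u + B.coord 2 x • v + B.coord 3 x • B 3 := by
      conv_lhs => rw [← B.sum_repr x, Fin.sum_univ_four, hB0]
      rfl
    have h3 : B.coord 3 x = 0 := by
      rw [e] at hx
      simp only [map_add, map_smul, smul_eq_mul, h0, hB1, hB2, hB3] at hx
      simpa using hx
    conv_lhs => rw [e, h3, zero_smul, add_zero]
  have hq : ∀ x, T.tri b b x = 0 → T.tri b x x = T.tri b u u * B.coord 1 x ^ 2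
      + 2 * T.tri b u v * (B.coord 1 x * B.coord 2 x) + T.tri b v v * B.coord 2 x ^ 2 := fun x hx => by
    conv_lhs => rw [hcoord x hx]
    simp only [map_add, map_smul, LinearMap.add_apply, LinearMap.smul_apply, smul_eq_mul, h0, hB1, hB2,
      T.symm23 b u b, T.symm23 b v b, T.symm23 b v u]
    ring
  rcases h with ⟨μ, hμ⟩ | hz
  · obtain ⟨p, q, p', q', hfac⟩ := binary_quadratic_factor (T.tri b u u) (2 * T.tri b u v) (T.tri b v v)
    refine ⟨p • B.coord 1 + q • B.coord 2, p' • B.coord 1 + q' • B.coord 2, μ, fun x hx => ?_⟩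
    rw [hμ x hx, hq x hx, hfac]
    simp
  · obtain ⟨p₁, q₁, p₂, q₂, p₃, q₃, h3⟩ := binary_cubic_factor (T.tri u u u) (3 * T.tri u u v)
      (3 * T.tri u v v) (T.tri v v v)
    refine ⟨p₁ • B.coord 1 + q₁ • B.coord 2, p₂ • B.coord 1 + q₂ • B.coord 2,
      p₃ • B.coord 1 + q₃ • B.coord 2, fun x hx => ?_⟩
    have ha : T.tri b u u = 0 := hz u hB1
    have hd : T.tri b v v = 0 := hz v hB2
    have hc : T.tri b u v = 0 := by
      have h4 := hz (u + v) (by simp [hB1, hB2])
      simp only [map_add, LinearMap.add_apply, T.symm23 b v u, ha, hd] at h4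
      linear_combination h4 / 2
    conv_lhs => rw [hcoord x hx]
    rw [Form.combine3', h0, hB1, hB2, ha, hd, hc]
    simp only [LinearMap.add_apply, LinearMap.smul_apply, smul_eq_mul]
    linear_combination h3 (B.coord 1 x) (B.coord 2 x)

/-- At a point which is not a T-point the tangent constructions do not stay in a plane. -/
theorem exists_surfMap_ne_zero {a : Fin 4 → K} (ha : a ≠ 0) (hFa : eval a F = 0) {r : Fin 4 → K}
    (hr : (ofPoly F).tri a a r ≠ 0) (hnot : ¬ IsTPt (ofPoly F) a)
    {φ : (Fin 4 → K) →ₗ[K] K} (hφ : φ ≠ 0) :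
    ∃ w u z, φ (surfMap (ofPoly F) a r w u z) ≠ 0 := by
  classical
  set T := ofPoly F with hT
  have h0 : T.tri a a a = 0 := (ofPoly_self_eq_zero hF a).2 hFa
  have haa : T.tri a a ≠ 0 := fun h => hr (by simp [h])
  obtain ⟨e, he0, he1, he2, he3⟩ := exists_adapted_basis ha haa h0
  set u := e 1
  set v := e 2
  let h : K → K → (Fin 4 → K) := fun s t => s • u + t • v
  have hh : ∀ s t, T.tri a a (h s t) = 0 := fun s t => by simp [h, he1, he2]
  let q : K → K → K := fun s t => T.tri (h s t) (h s t) a
  let c : K → K → K := fun s t => T.tri (h s t) (h s t) (h s t)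
  let b : K → (Fin 4 → K) := fun t => singMap T a (h 1 t)
  let qP : Polynomial K := Polynomial.C (T.tri u u a) + Polynomial.C (2 * T.tri u v a) * Polynomial.X
    + Polynomial.C (T.tri v v a) * Polynomial.X ^ 2
  let lP : Polynomial K := Polynomial.C 3 * qP * (Polynomial.C (φ u) + Polynomial.C (φ v) * Polynomial.X)
    - Polynomial.C (φ a) * (Polynomial.C (T.tri u u u) + Polynomial.C (3 * T.tri u u v) * Polynomial.X
      + Polynomial.C (3 * T.tri u v v) * Polynomial.X ^ 2 + Polynomial.C (T.tri v v v) * Polynomial.X ^ 3)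
  have hqP : ∀ t, qP.eval t = q 1 t := fun t => by
    simp only [qP, q, h, one_smul, map_add, map_smul, LinearMap.add_apply, LinearMap.smul_apply, smul_eq_mul,
      T.symm12 v u, Polynomial.eval_add, Polynomial.eval_mul, Polynomial.eval_C, Polynomial.eval_X,
      Polynomial.eval_pow]
    ring
  have hlP : ∀ t, lP.eval t = φ (b t) := fun t => by
    have hc : c 1 t = T.tri u u u + 3 * T.tri u u v * t + 3 * T.tri u v v * t ^ 2 + T.tri v v v * t ^ 3 := by
      simp only [c, h]; rw [T.expand₂]; ring
    simp only [lP, b, singMap, Polynomial.eval_sub, Polynomial.eval_mul, hqP, Polynomial.eval_add,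
      Polynomial.eval_C, Polynomial.eval_X, Polynomial.eval_pow, map_sub, map_smul, smul_eq_mul]
    rw [show φ (h 1 t) = φ u + t * φ v by simp [h], show T.tri (h 1 t) (h 1 t) (h 1 t) = c 1 t from rfl, hc]
    simp only [q]
    ring
  -- the tangent section is no product
  have hqne : qP ≠ 0 := fun hz => hnot (isTPt_of_polar hF ha hFa haa (Or.inr fun x hx => by
    have h2 : ∀ t, q 1 t = 0 := fun t => by rw [← hqP, hz, Polynomial.eval_zero]
    have e0 := h2 0
    have e1 := h2 1
    have e2 := h2 (-1)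
    simp only [q, h, one_smul, map_add, map_smul, LinearMap.add_apply, LinearMap.smul_apply,
      smul_eq_mul, T.symm12 v u] at e0 e1 e2
    have k0 : T.tri u u a = 0 := by linear_combination e0
    have k1 : T.tri v v a = 0 := by linear_combination (e1 + e2) / 2 - k0
    have k2 : T.tri u v a = 0 := by linear_combination (e1 - e2) / 4
    replace hx : T.tri a a x = 0 := hx
    show T.tri a x x = 0
    have ex : x = e.coord 0 x • a + e.coord 1 x • u + e.coord 2 x • v + e.coord 3 x • e 3 := by
      conv_lhs => rw [← e.sum_repr x, Fin.sum_univ_four, he0]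
      rfl
    have h3 : e.coord 3 x = 0 := by
      rw [ex] at hx
      simp only [map_add, map_smul, smul_eq_mul, h0, he1, he2, he3] at hx
      simpa using hx
    rw [ex, h3]
    simp only [map_add, map_smul, LinearMap.add_apply, LinearMap.smul_apply, smul_eq_mul, h0, he1, he2,
      T.symm23 a u a, T.symm23 a v a, T.symm23 a v u, T.rot a u u, T.rot a v v, T.rot a u v, k0, k1, k2]
    ring))
  have hplane : lP = 0 → φ a = 0 ∧ φ u = 0 ∧ φ v = 0 := fun hz => by
    have h2 : ∀ t, φ (b t) = 0 := fun t => by rw [← hlP, hz, Polynomial.eval_zero]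
    by_cases hφa : φ a = 0
    · have hlin : Polynomial.C (φ u) + Polynomial.C (φ v) * Polynomial.X = 0 := by
        have : Polynomial.C 3 * qP * (Polynomial.C (φ u) + Polynomial.C (φ v) * Polynomial.X) = 0 := by
          simpa [lP, hφa] using hz
        exact (mul_eq_zero.1 this).resolve_left (mul_ne_zero (by simp) hqne)
      have d0 := congrArg (Polynomial.coeff · 0) hlin
      have d1 := congrArg (Polynomial.coeff · 1) hlin
      simp at d0 d1
      exact ⟨hφa, d0, d1⟩
    · exfalso
      refine hnot (isTPt_of_polar hF ha hFa haa (Or.inl ⟨(3 / φ a) • φ, fun x hx => ?_⟩))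
      have hb : ∀ t, 3 * q 1 t * (φ u + t * φ v) - c 1 t * φ a = 0 := fun t => by
        have := h2 t
        simp only [b, singMap, map_sub, map_smul, smul_eq_mul] at this
        rw [show φ (h 1 t) = φ u + t * φ v by simp [h]] at this
        exact this
      have e0 := hb 0
      have e1 := hb 1
      have e2 := hb (-1)
      have e3 := hb 2
      simp only [q, c, h, one_smul] at e0 e1 e2 e3
      have key : ∀ s t, c s t * φ a = 3 * q s t * (s * φ u + t * φ v) := fun s t => by
        simp only [q, c, h, map_add, map_smul, LinearMap.add_apply, LinearMap.smul_apply, smul_eq_mul,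
          T.symm12 v u, T.symm23 u v u, T.symm23 v v u] at e0 e1 e2 e3 ⊢
        linear_combination (-(s ^ 3) + s * t ^ 2 + (s ^ 2 * t) / 2 - t ^ 3 / 2) * e0
          + (-(s ^ 2 * t) - (s * t ^ 2) / 2 + t ^ 3 / 2) * e1
          + ((s ^ 2 * t) / 3 - (s * t ^ 2) / 2 + t ^ 3 / 6) * e2
          + ((s ^ 2 * t) / 6 - t ^ 3 / 6) * e3
      replace hx : T.tri a a x = 0 := hx
      show T.tri x x x = T.tri a x x * _
      have ex : x = e.coord 0 x • a + e.coord 1 x • u + e.coord 2 x • v + e.coord 3 x • e 3 := by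
        conv_lhs => rw [← e.sum_repr x, Fin.sum_univ_four, he0]
        rfl
      have h3 : e.coord 3 x = 0 := by
        rw [ex] at hx
        simp only [map_add, map_smul, smul_eq_mul, h0, he1, he2, he3] at hx
        simpa using hx
      set p := e.coord 0 x
      set s := e.coord 1 x
      set t := e.coord 2 x
      have hx' : x = p • a + h s t := by
        rw [ex, h3, zero_smul, add_zero, add_assoc]
      have e4 : T.tri (h s t) a a = 0 := by rw [T.symm12, T.symm23]; exact hh s t
      have hxxx : T.tri x x x = 3 * p * q s t + c s t := by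
        rw [hx']
        simp only [q, c, map_add, map_smul, LinearMap.add_apply, LinearMap.smul_apply, smul_eq_mul, h0,
          hh, e4, T.symm23 a (h s t) a, T.symm12 a (h s t) (h s t), T.symm23 (h s t) a (h s t)]
        ring
      have hqx : T.tri a x x = q s t := by
        rw [hx']
        simp only [q, map_add, map_smul, LinearMap.add_apply, LinearMap.smul_apply, smul_eq_mul, h0,
          hh, T.symm23 a (h s t) a, T.rot a (h s t) (h s t)]
        ring
      have hφx : φ x = p * φ a + (s * φ u + t * φ v) := by rw [hx']; simp [h]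
      rw [hxxx, hqx, LinearMap.smul_apply, smul_eq_mul, hφx]
      field_simp
      linear_combination key s t
  -- finitely many lines of T-points
  have hfin := finite_tpoints hF ha hFa hr hnot (fun p => eval p F = 0 ∧ IsTPt T p) (fun p hp => hp)
  have ca1 : e.coord 1 a = 0 := by rw [← he0]; simp
  have ca2 : e.coord 2 a = 0 := by rw [← he0]; simp
  have cu1 : e.coord 1 u = 1 := by simp [u]
  have cu2 : e.coord 2 u = 0 := by simp [u]
  have cv1 : e.coord 1 v = 0 := by simp [v]
  have cv2 : e.coord 2 v = 1 := by simp [v]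
  have hb1 : ∀ t, e.coord 1 (b t) = 3 * q 1 t := fun t => by
    simp only [b, singMap, q, h, map_sub, map_smul, map_add, smul_eq_mul, ca1, cu1, cv1]
    ring
  have hb2 : ∀ t, e.coord 2 (b t) = 3 * q 1 t * t := fun t => by
    simp only [b, singMap, q, h, map_sub, map_smul, map_add, smul_eq_mul, ca2, cu2, cv2]
    ring
  have hbq : ∀ t, q 1 t ≠ 0 → b t ≠ 0 := fun t ht hb0 => by
    have := hb1 t
    rw [hb0, map_zero] at this
    exact ht ((mul_eq_zero.1 this.symm).resolve_left (by norm_num))
  have hFb : ∀ t, eval (b t) F = 0 := fun t =>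
    (ofPoly_self_eq_zero hF _).1 (singMap_mem T h0 (hh 1 t))
  have hbH : ∀ t, T.tri a a (b t) = 0 := fun t => by simp [b, singMap, h0, hh]
  have hbad : Set.Finite {t : K | q 1 t ≠ 0 ∧ IsTPt T (b t)} := by
    refine Set.Finite.of_finite_image (f := fun t => Submodule.span K {b t}) ?_ ?_
    · refine hfin.subset ?_
      rintro _ ⟨t, ⟨ht, htp⟩, rfl⟩
      refine ⟨finrank_span_singleton (hbq t ht), ?_, fun p hp hp0 => ?_⟩
      · rw [Submodule.span_singleton_le_iff_mem]; exact hbH t
      · obtain ⟨l, rfl⟩ := Submodule.mem_span_singleton.1 hp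
        have hl : l ≠ 0 := fun hl => hp0 (by simp [hl])
        obtain ⟨M₁, M₂, M₃, hM⟩ := htp
        refine ⟨(ofPoly_self_eq_zero hF _).1 (by simp [(ofPoly_self_eq_zero hF _).2 (hFb t)]), M₁, M₂, M₃, fun x hx => hM x ?_⟩
        simpa [hl] using hx
    · intro t ht t' ht' htt'
      have hmem : b t' ∈ Submodule.span K {b t} := by
        have heq : Submodule.span K {b t} = Submodule.span K {b t'} := htt'
        rw [heq]; exact Submodule.mem_span_singleton_self _
      obtain ⟨l, hl⟩ := Submodule.mem_span_singleton.1 hmem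
      have d1 := congrArg (e.coord 1) hl
      have d2 := congrArg (e.coord 2) hl
      rw [map_smul, smul_eq_mul, hb1, hb1] at d1
      rw [map_smul, smul_eq_mul, hb2, hb2] at d2
      refine mul_left_cancel₀ (mul_ne_zero (show (3 : K) ≠ 0 by norm_num) ht'.1) ?_
      linear_combination -t * d1 + d2
  have hroot : ∀ P : Polynomial K, P ≠ 0 → Set.Finite {t : K | P.eval t = 0} := fun P hP =>
    (Polynomial.finite_setOf_isRoot hP)
  obtain ⟨t, ht⟩ : ∃ t : K, t ∉ {t : K | qP.eval t = 0} ∪ {t : K | lP ≠ 0 ∧ lP.eval t = 0}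
      ∪ {t : K | q 1 t ≠ 0 ∧ IsTPt T (b t)} := by
    have hfin2 : Set.Finite {t : K | lP ≠ 0 ∧ lP.eval t = 0} := by
      by_cases hl : lP = 0
      · simp [hl]
      · exact (hroot lP hl).subset fun t ht => ht.2
    exact (((hroot qP hqne).union hfin2).union hbad).exists_notMem
  simp only [Set.mem_union, Set.mem_setOf_eq, not_or, not_and] at ht
  obtain ⟨⟨htq, htl⟩, htT⟩ := ht
  rw [hqP] at htq
  set p := b t with hp
  have hp0 : p ≠ 0 := hbq t htq
  have hpT : ¬ IsTPt T p := htT htq
  have hpa : T.tri p p a ≠ 0 := by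
    have key : T.tri p p a = 9 * q 1 t ^ 3 := by
      have e4 : T.tri (h 1 t) a a = 0 := by rw [T.symm12, T.symm23]; exact hh 1 t
      simp only [hp, b, singMap, q, map_sub, map_smul, LinearMap.sub_apply, LinearMap.smul_apply,
        smul_eq_mul, h0, e4, T.symm12 a (h 1 t) a]
      ring
    rw [key]; exact mul_ne_zero (by norm_num) (pow_ne_zero _ htq)
  have hpp : T.tri p p ≠ 0 := fun hz => hpa (by simp [hz])
  by_contra hall
  push Not at hall
  set cc := T.tri a a r
  have hvec : ∀ x, T.tri p p x = 0 → φ p * T.tri x x x = 3 * T.tri p x x * φ x := fun x hx => by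
    have hcurve : curveMap T a r (h 1 t) = cc ^ 3 • p := by
      simp only [curveMap, proj, hh, zero_smul, sub_zero, hp, b, singMap, map_smul, LinearMap.smul_apply,
        smul_eq_mul, smul_sub, smul_smul, cc]
      module
    have hproj : proj T (cc ^ 3 • p) a x = (cc ^ 6 * T.tri p p a) • x := by
      simp only [proj, map_smul, LinearMap.smul_apply, smul_eq_mul, hx, mul_zero, zero_smul, sub_zero]
      module
    have h5 := hall (h 1 t) a x
    simp only [surfMap, hcurve, hproj, map_sub, map_smul, LinearMap.smul_apply, smul_eq_mul] at h5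
    have hne : cc ^ 3 * (cc ^ 6 * T.tri p p a) ^ 3 ≠ 0 :=
      mul_ne_zero (pow_ne_zero _ hr) (pow_ne_zero _ (mul_ne_zero (pow_ne_zero _ hr) hpa))
    refine mul_left_cancel₀ hne ?_
    linear_combination h5
  by_cases hφp : φ p = 0
  · have hl0 : lP = 0 := by
      by_contra hl
      exact htl hl (by rw [hlP, ← hp]; exact hφp)
    obtain ⟨-, hφu, hφv⟩ := hplane hl0
    have hφa : φ a = 0 := (hplane hl0).1
    obtain ⟨y, hy, hy0⟩ : ∃ y, T.tri p p y = 0 ∧ φ y ≠ 0 := by
      by_contra hc
      push Not at hc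
      have hle : LinearMap.ker (T.tri p p) ≤ LinearMap.ker φ := fun y hy => hc y hy
      have h1 := Form.finrank_ker_of_ne_zero hpp
      have h2 := Form.finrank_ker_of_ne_zero hφ
      have heq := Submodule.eq_of_le_of_finrank_eq hle (by omega)
      exact hpa (heq ▸ (show a ∈ LinearMap.ker φ from hφa) : a ∈ LinearMap.ker (T.tri p p))
    refine hpT (isTPt_of_polar hF hp0 (hFb t) hpp (Or.inr fun x hx => ?_))
    replace hx : T.tri p p x = 0 := hx
    show T.tri p x x = 0
    by_cases hx0 : φ x = 0
    · have f : ∀ s : K, s ≠ 0 → T.tri p (x + s • y) (x + s • y) = 0 := fun s hs => by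
        have := hvec (x + s • y) (by simp [hx, hy])
        rw [hφp, zero_mul] at this
        have h' : φ (x + s • y) ≠ 0 := by simp [hx0, hs, hy0]
        have := (mul_eq_zero.1 this.symm).resolve_right h'
        exact (mul_eq_zero.1 this).resolve_left (by norm_num)
      have f1 := f 1 one_ne_zero
      have f2 := f (-1) (by norm_num)
      have f3 := f 2 (by norm_num)
      simp only [map_add, map_smul, LinearMap.add_apply, LinearMap.smul_apply, smul_eq_mul] at f1 f2 f3
      linear_combination f1 + f2 / 3 - f3 / 3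
    · have := hvec x hx
      rw [hφp, zero_mul] at this
      exact (mul_eq_zero.1 ((mul_eq_zero.1 this.symm).resolve_right hx0)).resolve_left (by norm_num)
  · refine hpT (isTPt_of_polar hF hp0 (hFb t) hpp (Or.inl ⟨(3 / φ p) • φ, fun x hx => ?_⟩))
    rw [LinearMap.smul_apply, smul_eq_mul]
    field_simp
    linear_combination hvec x hx

/-- At a singular point of an irreducible non-cone cubic the projection does not land in a plane. -/
theorem exists_singMap_ne_zero (hirr : Irreducible F) {a : Fin 4 → K}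
    (hsing : (ofPoly F).tri a a = 0) (hncone : ∃ x, (ofPoly F).tri x x a ≠ 0)
    {φ : (Fin 4 → K) →ₗ[K] K} (hφ : φ ≠ 0) : ∃ x, φ (singMap (ofPoly F) a x) ≠ 0 := by
  set T := ofPoly F with hT
  by_contra hall
  push Not at hall
  have hall' : ∀ x, 3 * T.tri x x a * φ x = T.tri x x x * φ a := fun x => by
    have := hall x
    simp only [singMap, map_sub, map_smul, smul_eq_mul] at this
    linear_combination this
  obtain ⟨Q, hQ⟩ := mem_polyFuns_iff.1 (polyFuns_tri F (u := fun v => v) (w := fun v => v) (z := fun _ => a)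
    (fun i => coord_mem_polyFuns i) (fun i => coord_mem_polyFuns i) (PolyVec.const a))
  have hpoly : C 3 * Q * linPoly φ = C (6 * φ a) * F := MvPolynomial.funext fun x => by
    simp only [map_mul, eval_C, hQ, eval_linPoly]
    rw [hall' x, hT, ofPoly_self hF]
    ring
  have hlin0 : linPoly φ ≠ 0 := fun h => hφ (LinearMap.ext fun x => by rw [← eval_linPoly φ x, h]; simp)
  have hQ0 : Q ≠ 0 := fun h => by
    obtain ⟨x, hx⟩ := hncone
    refine hx ?_
    show T.tri x x a = 0
    rw [← hQ, h, map_zero]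
  by_cases ha0 : φ a = 0
  · rw [ha0, mul_zero, map_zero, zero_mul] at hpoly
    exact mul_ne_zero (mul_ne_zero (by simp) hQ0) hlin0 hpoly
  · have hF0 : F ≠ 0 := hirr.ne_zero
    have e : F = (C ((6 * φ a)⁻¹ * 3) * Q) * linPoly φ := by
      calc F = C (6 * φ a)⁻¹ * (C (6 * φ a) * F) := by
            rw [← mul_assoc, ← map_mul, inv_mul_cancel₀ (mul_ne_zero (by norm_num) ha0), map_one, one_mul]
        _ = C (6 * φ a)⁻¹ * (C 3 * Q * linPoly φ) := by rw [hpoly]
        _ = _ := by rw [map_mul]; ring
    rcases hirr.isUnit_or_isUnit e with hu | hu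
    · obtain ⟨l, hl⟩ : ∃ l, C ((6 * φ a)⁻¹ * 3) * Q = C l := by
        obtain ⟨l, -, hl⟩ := MvPolynomial.isUnit_iff_eq_C_of_isReduced.1 hu
        exact ⟨l, hl⟩
      rw [hl] at e
      have h1 : F.totalDegree ≤ 1 := by
        rw [e]
        exact le_trans (totalDegree_mul _ _) (by simpa using (isHomogeneous_linPoly φ).totalDegree_le)
      rw [hF.totalDegree hF0] at h1
      omega
    · obtain ⟨l, hl0, hl⟩ := MvPolynomial.isUnit_iff_eq_C_of_isReduced.1 hu
      have := (isHomogeneous_linPoly φ).totalDegree hlin0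
      rw [hl, totalDegree_C] at this
      omega

end Geometry

section Main

variable {k : Type*} [Field k] [CharZero k] {K : Type*} [Field K] [CharZero K] [IsAlgClosed K]

theorem comp_singMap (f : k →+* K) (F : MvPolynomial (Fin 4) k) (a x : Fin 4 → k) :
    f ∘ singMap (ofPoly F) a x = singMap (ofPoly (MvPolynomial.map f F)) (f ∘ a) (f ∘ x) := by
  funext i
  simp [singMap, tri_map, map_ofNat]

theorem comp_proj (f : k →+* K) (F : MvPolynomial (Fin 4) k) (p r w : Fin 4 → k) :
    f ∘ proj (ofPoly F) p r w = proj (ofPoly (MvPolynomial.map f F)) (f ∘ p) (f ∘ r) (f ∘ w) := by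
  funext i
  simp [proj, tri_map]

theorem comp_surfMap (f : k →+* K) (F : MvPolynomial (Fin 4) k) (a r w u z : Fin 4 → k) :
    f ∘ surfMap (ofPoly F) a r w u z =
      surfMap (ofPoly (MvPolynomial.map f F)) (f ∘ a) (f ∘ r) (f ∘ w) (f ∘ u) (f ∘ z) := by
  have hb : f ∘ curveMap (ofPoly F) a r w =
      curveMap (ofPoly (MvPolynomial.map f F)) (f ∘ a) (f ∘ r) (f ∘ w) := by
    rw [curveMap, curveMap, comp_singMap, comp_proj]
  have hv : f ∘ proj (ofPoly F) (curveMap (ofPoly F) a r w) u z =
      proj (ofPoly (MvPolynomial.map f F)) (curveMap (ofPoly (MvPolynomial.map f F)) (f ∘ a) (f ∘ r) (f ∘ w))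
        (f ∘ u) (f ∘ z) := by
    rw [comp_proj, hb]
  funext i
  simp only [surfMap]
  rw [← hb] at hv ⊢
  rw [← hv]
  simp [tri_map, map_ofNat]

theorem comp_bigMap (f : k →+* K) (F : MvPolynomial (Fin 4) k) (a r : Fin 4 → k) (x : Fin 12 → k) :
    f ∘ bigMap F a r x = bigMap (MvPolynomial.map f F) (f ∘ a) (f ∘ r) (f ∘ x) := by
  rw [bigMap, comp_surfMap]
  rfl

/-- Five rational points in general position from a rational point which is singular or not a T-point. -/
theorem exists_five_points (f : k →+* K) {F : MvPolynomial (Fin 4) k} (hF : F.IsHomogeneous 3)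
    (hirr : Irreducible (MvPolynomial.map f F))
    (hncone : ∀ v : Fin 4 → K, v ≠ 0 → ∃ x, (ofPoly (MvPolynomial.map f F)).tri x x v ≠ 0)
    {a : Fin 4 → k} (ha : a ≠ 0) (hFa : eval a F = 0)
    (hT : (ofPoly F).tri a a ≠ 0 → ¬ IsTPt (ofPoly (MvPolynomial.map f F)) (f ∘ a)) :
    ∃ p : Fin 5 → (Fin 4 → k), p 0 = a ∧ (∀ j, eval (p j) F = 0) ∧
      ∀ j : Fin 5, LinearIndependent k (fun i : Fin 4 => p (j.succAbove i)) := by
  classical
  set T := ofPoly F with hTd
  set G := MvPolynomial.map f F with hG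
  have hGh : G.IsHomogeneous 3 := hF.map f
  have h0 : T.tri a a a = 0 := (ofPoly_self_eq_zero hF a).2 hFa
  have hfa : f ∘ a ≠ 0 := fun h => ha (funext fun i => f.injective (by simpa using congrFun h i))
  have hGa : eval (f ∘ a) G = 0 := by rw [hG, eval_map, ← eval₂_comp, hFa, map_zero]
  have hlift : ∀ φ : (Fin 4 → k) →ₗ[k] k, φ ≠ 0 → ∃ ψ : (Fin 4 → K) →ₗ[K] K, ψ ≠ 0 ∧ ∀ x, ψ (f ∘ x) = f (φ x) := by
    intro φ hφ
    refine ⟨∑ i, f (φ (Pi.single i 1)) • LinearMap.proj i, fun h => ?_, fun x => ?_⟩
    · refine hφ (LinearMap.pi_ext' fun i => LinearMap.ext_ring ?_)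
      simpa [Finset.sum_pi_single, Pi.single_apply] using LinearMap.congr_fun h (Pi.single i 1)
    · conv_rhs => rw [pi_eq_sum_univ' x, map_sum, map_sum]
      simp [mul_comm]
  suffices hmain : ∃ (n : ℕ) (g : (Fin n → k) → (Fin 4 → k)), PolyVec g ∧
      (∀ φ : (Fin 4 → k) →ₗ[k] k, φ ≠ 0 → ∃ v, φ (g v) ≠ 0) ∧ ∀ v, T.tri (g v) (g v) (g v) = 0 by
    obtain ⟨n, g, hg, hspan, hmem⟩ := hmain
    obtain ⟨p, hp0, hp, hli⟩ := exists_five hg hspan ha
    refine ⟨p, hp0, fun j => ?_, hli⟩
    by_cases hj : j = 0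
    · rw [hj, hp0]; exact hFa
    · obtain ⟨v, hv⟩ := hp j hj
      exact (ofPoly_self_eq_zero hF _).1 (hv ▸ hmem v)
  by_cases hsing : T.tri a a = 0
  · have hsingK : (ofPoly G).tri (f ∘ a) (f ∘ a) = 0 := by
      apply LinearMap.pi_ext'
      intro i
      apply LinearMap.ext_ring
      have h1 : Pi.single (M := fun _ : Fin 4 => K) i 1 = f ∘ Pi.single i (1 : k) := by
        funext j; simp [Pi.single_apply, apply_ite f]
      simp only [LinearMap.comp_apply, LinearMap.coe_single, LinearMap.zero_apply]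
      rw [h1, hG, tri_map, ← hTd, hsing]
      simp
    refine ⟨4, fun v => singMap T a v, PolyVec.singMap F (PolyVec.const a) (fun i => coord_mem_polyFuns i),
      fun φ hφ => ?_, fun v => singMap_mem T h0 (by rw [hsing]; rfl)⟩
    obtain ⟨ψ, hψ, hψf⟩ := hlift φ hφ
    obtain ⟨x, hx⟩ := exists_rat_ne_zero f
      ((PolyVec.singMap G (PolyVec.const (f ∘ a)) (fun i => coord_mem_polyFuns i)).linear ψ)
      (exists_singMap_ne_zero hGh hirr hsingK (hncone _ hfa) hψ)
    refine ⟨x, fun h => hx ?_⟩
    rw [← comp_singMap, hψf, h, map_zero]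
  · obtain ⟨r, hr⟩ : ∃ r, T.tri a a r ≠ 0 := by
      by_contra hc; push Not at hc; exact hsing (LinearMap.ext hc)
    have hrK : (ofPoly G).tri (f ∘ a) (f ∘ a) (f ∘ r) ≠ 0 := by
      rw [hG, tri_map, ← hTd]; exact (map_ne_zero f).2 hr
    refine ⟨12, bigMap F a r, polyVec_bigMap F a r, fun φ hφ => ?_, fun v => surfMap_mem T h0⟩
    obtain ⟨ψ, hψ, hψf⟩ := hlift φ hφ
    obtain ⟨w, u, z, hwuz⟩ := exists_surfMap_ne_zero hGh hfa hGa hrK (hT hsing) hψ
    have hv : ∀ (j : Fin 3), blk j (pack w u z) = ![w, u, z] j := fun j => blk_pack w u z j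
    have hne : ψ (bigMap G (f ∘ a) (f ∘ r) (pack w u z)) ≠ 0 := by
      rw [bigMap, hv 0, hv 1, hv 2]
      exact hwuz
    obtain ⟨x, hx⟩ := exists_rat_ne_zero f (g := fun v => ψ (bigMap G (f ∘ a) (f ∘ r) v))
      ((polyVec_bigMap G (f ∘ a) (f ∘ r)).linear ψ) ⟨pack w u z, hne⟩
    refine ⟨x, fun h => hx ?_⟩
    rw [hG, ← comp_bigMap, hψf, h, map_zero]

end Main

end Groth.CubicPfaff
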